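import Groth.Agent.Lib.HomScheme.Affine

/-!
Representability of `Hom_S(X, Y)` for `X` finite locally free and `Y` affine over `S`.
-/

set_option backward.isDefEq.respectTransparency false

universe u

open CategoryTheory CategoryTheory.Limits MonoidalCategory CartesianMonoidalCategory AlgebraicGeometry

namespace GrothLib.HomScheme

open GrothLib.RepLocal

variable {S : Scheme.{u}} (X Y : Over S) [IsFinite X.hom] [Flat X.hom] [LocallyOfFinitePresentation X.hom]
  [IsAffineHom Y.hom]

theorem exists_local (U : S.affineOpens) :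
    ∃ (N : Over S) (n : (homPsh X Y).obj N), RepOn (homPsh X Y) U.1 N n ∧
      ∀ q : N.left ⟶ (U.1 : Scheme.{u}), q ≫ U.1.ι = N.hom → IsAffineHom q ∧
        (LocallyOfFiniteType Y.hom → LocallyOfFiniteType q) ∧
        (LocallyOfFinitePresentation Y.hom → LocallyOfFinitePresentation q) := by
  have hU : IsAffineOpen U.1 := U.2
  haveI : Mono hU.fromSpec := inferInstance
  obtain ⟨W, _, _, n, hn, hFT, hFP⟩ := exists_affine_rep hU.fromSpec X Y
  let w := Spec.map (CommRingCat.ofHom (algebraMap Γ(S, U.1) W))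
  have hw : (w ≫ hU.isoSpec.inv) ≫ U.1.ι = (specOver hU.fromSpec W).hom := by
    rw [Category.assoc, hU.isoSpec_inv_ι]
    rfl
  refine ⟨specOver hU.fromSpec W, n, repOn_of_affine (isSheaf_homPsh X Y) _ _ _ ⟨_, hw⟩
    fun T hT hTU φ => ?_, fun q hq => ?_⟩
  · obtain ⟨q, hq⟩ := hTU
    haveI := hT
    obtain ⟨C, _, _, ⟨e⟩⟩ := exists_iso_specOver hU.fromSpec T (q ≫ hU.isoSpec.hom) (by
      rw [← hU.isoSpec_inv_ι, Category.assoc, Iso.hom_inv_id_assoc, hq])
    obtain ⟨v, hv, hvu⟩ := hn C ((X ◁ e.inv) ≫ φ)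
    refine ⟨e.hom ≫ v, ?_, fun v' hv' => ?_⟩
    · change (X ◁ (e.hom ≫ v)) ≫ n = φ
      rw [MonoidalCategory.whiskerLeft_comp, Category.assoc, hv, ← Category.assoc,
        ← MonoidalCategory.whiskerLeft_comp, e.hom_inv_id, MonoidalCategory.whiskerLeft_id, Category.id_comp]
    · have h : e.inv ≫ v' = v := hvu _ (by
        change (X ◁ (e.inv ≫ v')) ≫ n = _
        rw [MonoidalCategory.whiskerLeft_comp, Category.assoc]
        exact congrArg _ hv')
      rw [← h, Iso.hom_inv_id_assoc]
  · obtain rfl : q = w ≫ hU.isoSpec.inv := by rw [← cancel_mono U.1.ι, hq, hw]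
    haveI : IsAffine (specOver hU.fromSpec W).left := inferInstanceAs (IsAffine (Spec _))
    haveI : IsAffine (U.1 : Scheme.{u}) := hU
    refine ⟨isAffineHom_of_isAffine _, fun h => ?_, fun h => ?_⟩
    · haveI : LocallyOfFiniteType w := (HasRingHomProperty.Spec_iff (P := @LocallyOfFiniteType)).mpr
        (RingHom.finiteType_algebraMap.mpr (hFT h))
      infer_instance
    · haveI : LocallyOfFinitePresentation w := (HasRingHomProperty.Spec_iff (P := @LocallyOfFinitePresentation)).mpr
        (RingHom.finitePresentation_algebraMap.mpr (hFP h))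
      infer_instance

/-- `Hom_S(X, Y)` is representable by a scheme affine over `S`. -/
theorem exists_hom :
    ∃ (M : Over S) (ev : X ⊗ M ⟶ Y),
      (∀ (T : Over S) (φ : X ⊗ T ⟶ Y), ∃! v : T ⟶ M, (X ◁ v) ≫ ev = φ) ∧ IsAffineHom M.hom ∧
      (LocallyOfFiniteType Y.hom → LocallyOfFiniteType M.hom) ∧
      (LocallyOfFinitePresentation Y.hom → LocallyOfFinitePresentation M.hom) := by
  obtain ⟨M, ev, hM⟩ := exists_representing (homPsh X Y) (isSheaf_homPsh X Y).isLocal fun U =>
    (exists_local X Y U).imp fun _ h => h.imp fun _ h => h.1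
  refine ⟨M, ev, hM, ?_, fun h => ?_, fun h => ?_⟩
  · exact prop_of_local _ @IsAffineHom M ev hM fun U =>
      (exists_local X Y U).imp fun _ h => h.imp fun _ h => ⟨h.1, fun q hq => (h.2 q hq).1⟩
  · exact prop_of_local _ @LocallyOfFiniteType M ev hM fun U =>
      (exists_local X Y U).imp fun _ g => g.imp fun _ g => ⟨g.1, fun q hq => (g.2 q hq).2.1 h⟩
  · exact prop_of_local _ @LocallyOfFinitePresentation M ev hM fun U =>
      (exists_local X Y U).imp fun _ g => g.imp fun _ g => ⟨g.1, fun q hq => (g.2 q hq).2.2 h⟩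

end GrothLib.HomScheme
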