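import Mathlib.AlgebraicGeometry.Morphisms.ClosedImmersion
import Groth.Agent.Lib.HomScheme.Rep
import Groth.Agent.Lib.DiagGrp.KernelFP
import Groth.Prelude.Def_AutFam

/-!
Representability of `Hom_{S-gr}(H, G)` for `H` finite locally free and `G` affine over `S`.
-/

set_option backward.isDefEq.respectTransparency false

universe u

open CategoryTheory CategoryTheory.Limits MonoidalCategory CartesianMonoidalCategory MonObj GrpObj AlgebraicGeometry

namespace GrothLib.HomScheme

variable {S : Scheme.{u}}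

theorem finiteFlat_tensor (X Y : Over S) [IsFinite X.hom] [Flat X.hom] [LocallyOfFinitePresentation X.hom]
    [IsFinite Y.hom] [Flat Y.hom] [LocallyOfFinitePresentation Y.hom] :
    IsFinite (X ⊗ Y).hom ∧ Flat (X ⊗ Y).hom ∧ LocallyOfFinitePresentation (X ⊗ Y).hom := by
  change IsFinite (pullback.fst X.hom Y.hom ≫ X.hom) ∧ Flat (pullback.fst X.hom Y.hom ≫ X.hom) ∧
    LocallyOfFinitePresentation (pullback.fst X.hom Y.hom ≫ X.hom)
  haveI : IsFinite (pullback.fst X.hom Y.hom) := MorphismProperty.pullback_fst _ _ inferInstance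
  haveI : Flat (pullback.fst X.hom Y.hom) := MorphismProperty.pullback_fst _ _ inferInstance
  haveI : LocallyOfFinitePresentation (pullback.fst X.hom Y.hom) :=
    MorphismProperty.pullback_fst _ _ inferInstance
  exact ⟨inferInstance, inferInstance, inferInstance⟩

/-- Equalisers of maps into a separated object are closed subschemes, finitely presented for a target of finite type. -/
theorem exists_equalizer {M M₂ : Over S} (p q : M ⟶ M₂) [IsSeparated M₂.hom] :
    ∃ (A : Over S) (i : A ⟶ M), Mono i ∧ IsClosedImmersion i.left ∧ i ≫ p = i ≫ q ∧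
      (LocallyOfFiniteType M₂.hom → LocallyOfFinitePresentation i.left) ∧
      ∀ (T : Over S) (v : T ⟶ M), v ≫ p = v ≫ q → ∃ w : T ⟶ A, w ≫ i = v := by
  let d : M₂ ⟶ M₂ ⊗ M₂ := lift (𝟙 _) (𝟙 _)
  haveI : IsSeparated (fst M₂ M₂).left := MorphismProperty.pullback_fst (P := @IsSeparated) _ _ inferInstance
  have hd : d.left ≫ (fst M₂ M₂).left = 𝟙 _ := congrArg (fun t => t.left) (lift_fst (𝟙 M₂) (𝟙 M₂))
  haveI : IsClosedImmersion (d.left ≫ (fst M₂ M₂).left) := by rw [hd]; infer_instance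
  haveI : IsClosedImmersion d.left := IsClosedImmersion.of_comp d.left (fst M₂ M₂).left
  let P := pullback (lift p q).left d.left
  let A : Over S := Over.mk (pullback.fst (lift p q).left d.left ≫ M.hom)
  let i : A ⟶ M := Over.homMk (pullback.fst _ _) rfl
  let k : A ⟶ M₂ := Over.homMk (pullback.snd (lift p q).left d.left) (by
    change pullback.snd (lift p q).left d.left ≫ M₂.hom = pullback.fst (lift p q).left d.left ≫ M.hom
    rw [← Over.w d, ← Category.assoc, ← pullback.condition, Category.assoc, Over.w (lift p q)])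
  have hik : i ≫ lift p q = k ≫ d := Over.OverMorphism.ext pullback.condition
  haveI hci : IsClosedImmersion i.left := MorphismProperty.pullback_fst (P := @IsClosedImmersion) _ _ inferInstance
  refine ⟨A, i, (Over.forget S).mono_of_mono_map (show Mono i.left from inferInstance), hci, ?_, fun h => ?_,
    fun T v hv => ?_⟩
  · have h1 := congrArg (· ≫ fst M₂ M₂) hik
    have h2 := congrArg (· ≫ snd M₂ M₂) hik
    simp only [Category.assoc, lift_fst, lift_snd, d, Category.comp_id] at h1 h2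
    rw [h1, h2]
  · haveI : LocallyOfFiniteType (fst M₂ M₂).left :=
      MorphismProperty.pullback_fst (P := @LocallyOfFiniteType) _ _ h
    haveI : LocallyOfFinitePresentation d.left :=
      DiagGrp.lfp_of_comp_of_lft d.left (fst M₂ M₂).left (by rw [hd]; infer_instance) inferInstance
    exact MorphismProperty.pullback_fst (P := @LocallyOfFinitePresentation) _ _ inferInstance
  · have h : v ≫ lift p q = (v ≫ p) ≫ d := by
      simp [d, comp_lift, hv]
    let w : T ⟶ A := Over.homMk (pullback.lift v.left (v ≫ p).left (congrArg (fun t => t.left) h)) (by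
      change pullback.lift _ _ _ ≫ pullback.fst _ _ ≫ M.hom = _
      rw [pullback.lift_fst_assoc]
      exact Over.w v)
    exact ⟨w, Over.OverMorphism.ext (pullback.lift_fst _ _ _)⟩

/-- `Hom_{S-gr}(H, G)` is representable by a scheme affine over `S`. -/
theorem exists_grpHom (H G : Over S) [GrpObj H] [GrpObj G] [IsFinite H.hom] [Flat H.hom]
    [LocallyOfFinitePresentation H.hom] [IsAffineHom G.hom] :
    ∃ (A : Over S) (υ : H ⊗ A ⟶ G), AutFam.RepresentsHom H G A υ ∧ IsAffineHom A.hom ∧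
      (LocallyOfFiniteType G.hom → LocallyOfFiniteType A.hom) ∧
      (LocallyOfFinitePresentation G.hom → LocallyOfFinitePresentation A.hom) := by
  obtain ⟨M, ev, hM, hMa, hMt, hMp⟩ := exists_hom H G
  obtain ⟨_, _, _⟩ := finiteFlat_tensor H H
  obtain ⟨M₂, ev₂, hM₂, hM₂a, hM₂t, -⟩ := exists_hom (H ⊗ H) G
  obtain ⟨p, hp, -⟩ := hM₂ M ((μ[H] ▷ M) ≫ ev)
  obtain ⟨q, hq, -⟩ := hM₂ M (((fst H H ▷ M) ≫ ev) * ((snd H H ▷ M) ≫ ev))
  haveI : IsAffineHom M₂.hom := hM₂a
  obtain ⟨A, i, hmono, hci, heq, hfp, hlift⟩ := exists_equalizer p q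
  have hcrit : ∀ {T : Over S} (v : T ⟶ M), AutFam.IsHomFamily H G ((H ◁ v) ≫ ev) ↔ v ≫ p = v ≫ q := by
    intro T v
    have hpt : ∀ {X : Over S} (g₁ g₂ : X ⟶ H) (t : X ⟶ T),
        lift (lift g₁ g₂) t ≫ ((H ⊗ H) ◁ (v ≫ p)) ≫ ev₂ = lift (g₁ * g₂) t ≫ (H ◁ v) ≫ ev ∧
        lift (lift g₁ g₂) t ≫ ((H ⊗ H) ◁ (v ≫ q)) ≫ ev₂ =
          (lift g₁ t ≫ (H ◁ v) ≫ ev) * (lift g₂ t ≫ (H ◁ v) ≫ ev) := by
      intro X g₁ g₂ t
      constructor
      · rw [MonoidalCategory.whiskerLeft_comp, Category.assoc, hp, lift_whiskerLeft_assoc, lift_whiskerLeft_assoc,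
          lift_whiskerRight_assoc]
        rfl
      · rw [MonoidalCategory.whiskerLeft_comp, Category.assoc, hq, lift_whiskerLeft_assoc, MonObj.comp_mul,
          lift_whiskerLeft_assoc, lift_whiskerLeft_assoc, lift_whiskerRight_assoc, lift_whiskerRight_assoc,
          lift_fst, lift_snd]
    constructor
    · intro h
      refine (hM₂ T _).unique rfl ?_
      have e : lift (lift (fst (H ⊗ H) T ≫ fst H H) (fst (H ⊗ H) T ≫ snd H H)) (snd (H ⊗ H) T) = 𝟙 _ := by
        apply CartesianMonoidalCategory.hom_ext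
        · apply CartesianMonoidalCategory.hom_ext <;> simp
        · simp
      obtain ⟨h1, h2⟩ := hpt (fst (H ⊗ H) T ≫ fst H H) (fst (H ⊗ H) T ≫ snd H H) (snd (H ⊗ H) T)
      rw [e, Category.id_comp] at h1 h2
      change (H ⊗ H) ◁ (v ≫ q) ≫ ev₂ = (H ⊗ H) ◁ (v ≫ p) ≫ ev₂
      rw [h1, h2]
      exact (h _ _ _ _).symm
    · intro h X g₁ g₂ t
      rw [← (hpt g₁ g₂ t).1, ← (hpt g₁ g₂ t).2, h]
  refine ⟨A, (H ◁ i) ≫ ev, ⟨(hcrit i).mpr heq, fun T φ hφ => ?_⟩, ?_, fun h => ?_, fun h => ?_⟩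
  · obtain ⟨v, rfl, hvu⟩ := hM T φ
    obtain ⟨w, hw⟩ := hlift T v ((hcrit v).mp hφ)
    refine ⟨w, ?_, fun w' hw' => ?_⟩
    · change (H ◁ w) ≫ (H ◁ i) ≫ ev = _
      rw [← Category.assoc, ← MonoidalCategory.whiskerLeft_comp, hw]
    · rw [← cancel_mono i, hw]
      refine hvu _ ?_
      change (H ◁ (w' ≫ i)) ≫ ev = _
      rw [MonoidalCategory.whiskerLeft_comp, Category.assoc]
      exact hw'
  · rw [← Over.w i]; infer_instance
  · haveI := hMt h
    rw [← Over.w i]; infer_instance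
  · haveI := hMp h
    haveI := hfp (hM₂t inferInstance)
    rw [← Over.w i]; infer_instance

end GrothLib.HomScheme
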