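import Mathlib.AlgebraicGeometry.Morphisms.QuasiFinite
import Mathlib.AlgebraicGeometry.Morphisms.Separated
import Mathlib.AlgebraicGeometry.Morphisms.Etale
import Mathlib.AlgebraicGeometry.Limits
import Groth.Prelude.Def_TwC

/-!
Constant schemes are etale and separated.
-/

set_option backward.isDefEq.respectTransparency false

universe w u

open CategoryTheory CategoryTheory.Limits AlgebraicGeometry

namespace GrothLib.HomScheme

variable (W : Scheme.{u}) (κ : Type w) [Small.{u} κ]

theorem eq_of_mem_piece {T : Scheme.{u}} (a : T ⟶ (TwC.const W κ).left) (i : κ)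
    (h : ∀ t, a t ∈ (Sigma.ι (fun _ : κ => W) i).opensRange) :
    a = (a ≫ (TwC.const W κ).hom) ≫ Sigma.ι (fun _ : κ => W) i := by
  let l := IsOpenImmersion.lift (Sigma.ι (fun _ : κ => W) i) a (by rintro _ ⟨t, rfl⟩; exact h t)
  have hl : l ≫ Sigma.ι (fun _ : κ => W) i = a := IsOpenImmersion.lift_fac _ _ _
  have h2 : a ≫ (TwC.const W κ).hom = l := by
    rw [← hl]
    change (l ≫ _) ≫ Sigma.desc _ = l
    rw [Category.assoc, Sigma.ι_desc, Category.comp_id]
  rw [h2, hl]

theorem etale_const : Etale (TwC.const W κ).hom := by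
  rw [IsZariskiLocalAtSource.iff_of_openCover (P := @Etale) (sigmaOpenCover (fun _ : κ => W))]
  intro i
  change Etale (Sigma.ι (fun _ : κ => W) i ≫ Sigma.desc _)
  rw [Sigma.ι_desc]
  infer_instance

theorem isSeparated_const : IsSeparated (TwC.const W κ).hom := by
  set f := (TwC.const W κ).hom
  let P : κ → (TwC.const W κ).left.Opens := fun i => (Sigma.ι (fun _ : κ => W) i).opensRange
  have hP : ∀ x, ∃ i, x ∈ P i := fun x => by
    obtain ⟨i, y, hy⟩ := (sigmaOpenCover (fun _ : κ => W)).exists_eq x
    exact ⟨i, y, hy⟩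
  have hclosed : IsClosed (Set.range (pullback.diagonal f)) := by
    refine isOpen_compl_iff.mp (isOpen_iff_forall_mem_open.mpr fun z hz => ?_)
    obtain ⟨i, hi⟩ := hP (pullback.fst f f z)
    obtain ⟨j, hj⟩ := hP (pullback.snd f f z)
    refine ⟨(pullback.fst f f ⁻¹ᵁ P i) ⊓ (pullback.snd f f ⁻¹ᵁ P j), ?_, (_ ⊓ _ : (pullback f f).Opens).isOpen,
      ⟨hi, hj⟩⟩
    have hij : i ≠ j := by
      rintro rfl
      apply hz
      let V : (pullback f f).Opens := (pullback.fst f f ⁻¹ᵁ P i) ⊓ (pullback.snd f f ⁻¹ᵁ P i)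
      have h1 := eq_of_mem_piece W κ (V.ι ≫ pullback.fst f f) i fun t => t.2.1
      have h2 := eq_of_mem_piece W κ (V.ι ≫ pullback.snd f f) i fun t => t.2.2
      have he : V.ι ≫ pullback.fst f f = V.ι ≫ pullback.snd f f := by
        rw [h1, h2]
        simp only [Category.assoc]
        rw [pullback.condition_assoc]
      have h3 : (V.ι ≫ pullback.fst f f) ≫ pullback.diagonal f = V.ι := by
        apply pullback.hom_ext
        · rw [Category.assoc, pullback.diagonal_fst, Category.comp_id]
        · rw [Category.assoc, pullback.diagonal_snd, Category.comp_id, he]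
      exact ⟨(V.ι ≫ pullback.fst f f) ⟨z, hi, hj⟩,
        congrArg (fun m : (V : Scheme.{u}) ⟶ pullback f f => m ⟨z, hi, hj⟩) h3⟩
    rintro w ⟨hw₁, hw₂⟩ ⟨x, rfl⟩
    refine (disjoint_opensRange_sigmaι (fun _ : κ => W) i j hij).le_bot (x := x) ⟨?_, ?_⟩
    · have e : pullback.fst f f (pullback.diagonal f x) = x := by
        rw [← Scheme.Hom.comp_apply, pullback.diagonal_fst]; rfl
      have := hw₁
      change pullback.fst f f (pullback.diagonal f x) ∈ P i at this
      rwa [e] at this
    · have e : pullback.snd f f (pullback.diagonal f x) = x := by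
        rw [← Scheme.Hom.comp_apply, pullback.diagonal_snd]; rfl
      have := hw₂
      change pullback.snd f f (pullback.diagonal f x) ∈ P j at this
      rwa [e] at this
  exact ⟨IsClosedImmersion.of_isPreimmersion _ hclosed⟩

theorem lqf_const : LocallyQuasiFinite (TwC.const W κ).hom := by
  rw [IsZariskiLocalAtSource.iff_of_openCover (P := @LocallyQuasiFinite) (sigmaOpenCover (fun _ : κ => W))]
  intro i
  change LocallyQuasiFinite (Sigma.ι (fun _ : κ => W) i ≫ Sigma.desc _)
  rw [Sigma.ι_desc]
  infer_instance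

end GrothLib.HomScheme
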