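import Groth.Agent.Lib.DescentHom.Basic
import Groth.Prelude.Def_AutFam

/-!
Families of homomorphisms: base change and transport of representing objects, associated homomorphisms.
-/

universe u

open CategoryTheory MonoidalCategory CartesianMonoidalCategory MonObj GrpObj AlgebraicGeometry
open CategoryTheory.Limits
open GrothLib.DiagGrp

namespace GrothLib.HomScheme

variable {S : Scheme.{u}} {G H : Over S} [GrpObj G] [GrpObj H]

section hom

variable {P : Scheme.{u}} (g : P ⟶ S)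

/-- The homomorphism over `P` attached to a family parametrised by `P`. -/
noncomputable def homOf (φ : G ⊗ Over.mk g ⟶ H) : Red.bc g G ⟶ Red.bc g H :=
  bcPoint g H _ (lift ((bcPoint g G _).symm (𝟙 _)) (Over.homMk (V := Over.mk g) (Red.bc g G).hom rfl) ≫ φ)

theorem comp_homOf (φ : G ⊗ Over.mk g ⟶ H) {T : Over P} (z : (Over.map g).obj T ⟶ G) :
    bcPoint g G T z ≫ homOf g φ = bcPoint g H T (lift z (Over.homMk (V := Over.mk g) T.hom rfl) ≫ φ) := by
  rw [homOf, ← bcPoint_comp, ← Category.assoc, comp_lift]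
  have h1 : (Over.map g).map (bcPoint g G T z) ≫ (bcPoint g G _).symm (𝟙 _) = z := by
    apply (bcPoint g G T).injective
    rw [bcPoint_comp, Equiv.apply_symm_apply, Category.comp_id]
  have h2 : (Over.map g).map (bcPoint g G T z) ≫ (Over.homMk (V := Over.mk g) (Red.bc g G).hom rfl) =
      Over.homMk (V := Over.mk g) T.hom rfl := Over.OverMorphism.ext (Over.w (bcPoint g G T z))
  rw [h1, h2]

theorem isMonHom_homOf {φ : G ⊗ Over.mk g ⟶ H} (hφ : AutFam.IsHomFamily G H φ) : IsMonHom (homOf g φ) := by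
  refine GrothLib.DiagGrp.isMonHom_of_points _ fun Y a b => ?_
  obtain ⟨a, rfl⟩ := (bcPointMulEquiv g G Y).surjective a
  obtain ⟨b, rfl⟩ := (bcPointMulEquiv g G Y).surjective b
  rw [← map_mul]
  refine (comp_homOf g φ (a * b)).trans ?_
  rw [hφ]
  refine (map_mul (bcPointMulEquiv g H Y) _ _).trans ?_
  exact congrArg₂ (· * ·) (comp_homOf g φ a).symm (comp_homOf g φ b).symm

theorem ev_homOf (φ : G ⊗ Over.mk g ⟶ H) {Y : Over S} (a : Y.left ⟶ P) (ha : a ≫ g = Y.hom) (z : Y ⟶ G) :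
    DescentHom.ev g (homOf g φ) a ha z = lift z (Over.homMk a ha) ≫ φ := by
  simp only [DescentHom.ev]
  rw [Iso.inv_comp_eq, MulEquiv.symm_apply_eq, comp_homOf]
  refine congrArg (bcPoint g H _) ?_
  rw [comp_lift_assoc]
  refine congrArg (lift _ · ≫ φ) (Over.OverMorphism.ext ?_)
  exact (Category.id_comp _).symm

end hom

section baseChange

variable {W : Scheme.{u}} (f : W ⟶ S)

/-- A family over a base change. -/
noncomputable def bcFam {T₀ : Over S} (φ : G ⊗ T₀ ⟶ H) {T : Over W} (b : (Over.map f).obj T ⟶ T₀) :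
    Red.bc f G ⊗ T ⟶ Red.bc f H :=
  bcPoint f H _ (lift ((bcPoint f G _).symm (fst _ _)) ((Over.map f).map (snd (Red.bc f G) T) ≫ b) ≫ φ)

theorem comp_bcFam {T₀ : Over S} (φ : G ⊗ T₀ ⟶ H) {T : Over W} (b : (Over.map f).obj T ⟶ T₀) {Z : Over W}
    (z : (Over.map f).obj Z ⟶ G) (t : Z ⟶ T) :
    lift (bcPoint f G Z z) t ≫ bcFam f φ b = bcPoint f H Z (lift z ((Over.map f).map t ≫ b) ≫ φ) := by
  rw [bcFam, ← bcPoint_comp, ← Category.assoc, comp_lift, ← Category.assoc, ← Functor.map_comp, lift_snd]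
  have h1 : (Over.map f).map (lift (bcPoint f G Z z) t) ≫ (bcPoint f G _).symm (fst (Red.bc f G) T) = z := by
    apply (bcPoint f G Z).injective
    rw [bcPoint_comp, Equiv.apply_symm_apply, lift_fst]
  rw [h1]

theorem isHomFamily_bcFam {T₀ : Over S} {φ : G ⊗ T₀ ⟶ H} (hφ : AutFam.IsHomFamily G H φ) {T : Over W}
    (b : (Over.map f).obj T ⟶ T₀) : AutFam.IsHomFamily (Red.bc f G) (Red.bc f H) (bcFam f φ b) := by
  intro Z g₁ g₂ t
  obtain ⟨z₁, rfl⟩ := (bcPointMulEquiv f G Z).surjective g₁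
  obtain ⟨z₂, rfl⟩ := (bcPointMulEquiv f G Z).surjective g₂
  rw [← map_mul]
  refine (comp_bcFam f φ b (z₁ * z₂) t).trans ?_
  rw [hφ]
  refine (map_mul (bcPointMulEquiv f H Z) _ _).trans ?_
  exact congrArg₂ (· * ·) (comp_bcFam f φ b z₁ t).symm (comp_bcFam f φ b z₂ t).symm

variable {T : Over W} (φ' : Red.bc f G ⊗ T ⟶ Red.bc f H)

/-- The structure map to `W` of a product with a scheme over `W`. -/
noncomputable def prodIso : (Over.map f).obj (Over.mk ((snd G ((Over.map f).obj T)).left ≫ T.hom)) ≅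
    G ⊗ (Over.map f).obj T :=
  Over.isoMk (Iso.refl _) (by
    change 𝟙 _ ≫ (G ⊗ (Over.map f).obj T).hom = ((snd G ((Over.map f).obj T)).left ≫ T.hom) ≫ f
    rw [Category.id_comp, Category.assoc]
    exact (Over.w (snd G ((Over.map f).obj T))).symm)

/-- A family over the base change, seen over the original base. -/
noncomputable def unbcFam : G ⊗ (Over.map f).obj T ⟶ H :=
  (prodIso f).inv ≫ (bcPoint f H _).symm
    (lift (bcPoint f G _ ((prodIso f).hom ≫ fst _ _)) (Over.homMk (snd G ((Over.map f).obj T)).left rfl) ≫ φ')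

theorem comp_unbcFam {Z : Over W} (z : (Over.map f).obj Z ⟶ G) (t : Z ⟶ T) :
    lift z ((Over.map f).map t) ≫ unbcFam f φ' = (bcPoint f H Z).symm (lift (bcPoint f G Z z) t ≫ φ') := by
  set j := lift z ((Over.map f).map t) with hj
  let j₀ : Z ⟶ Over.mk ((snd G ((Over.map f).obj T)).left ≫ T.hom) := Over.homMk j.left (by
    change j.left ≫ (snd G ((Over.map f).obj T)).left ≫ T.hom = Z.hom
    rw [← Category.assoc, ← Over.comp_left, hj, lift_snd]
    exact Over.w t)
  have h1 : (Over.map f).map j₀ ≫ (prodIso f).hom = j := Over.OverMorphism.ext (Category.comp_id _)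
  have hnat : ∀ w, (Over.map f).map j₀ ≫ (bcPoint f H _).symm w = (bcPoint f H Z).symm (j₀ ≫ w) := fun w => by
    rw [Equiv.eq_symm_apply, bcPoint_comp, Equiv.apply_symm_apply]
  have h2 : lift z ((Over.map f).map t) ≫ (prodIso f).inv = (Over.map f).map j₀ := by
    rw [Iso.comp_inv_eq, h1]
  rw [unbcFam, ← Category.assoc, h2, hnat, ← Category.assoc, comp_lift]
  refine congrArg (bcPoint f H Z).symm (congrArg (· ≫ φ') ?_)
  have h4 : j₀ ≫ bcPoint f G _ ((prodIso f).hom ≫ fst _ _) = bcPoint f G Z z := by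
    rw [← bcPoint_comp, ← Category.assoc, h1, hj, lift_fst]
  have h5 : j₀ ≫ (Over.homMk (snd G ((Over.map f).obj T)).left rfl : _ ⟶ T) = t := by
    apply Over.OverMorphism.ext
    change j.left ≫ (snd G ((Over.map f).obj T)).left = t.left
    rw [← Over.comp_left, hj, lift_snd]
    rfl
  rw [h4, h5]

/-- Points of a product with a scheme over `W` come from points over `W`. -/
theorem exists_lift_map {X : Over S} (t : X ⟶ (Over.map f).obj T) :
    ∃ (Z : Over W) (k : (Over.map f).obj Z ≅ X) (t₀ : Z ⟶ T), k.hom ≫ t = (Over.map f).map t₀ :=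
  ⟨Over.mk (t.left ≫ T.hom), Over.isoMk (Iso.refl _) (by
    change 𝟙 _ ≫ X.hom = (t.left ≫ T.hom) ≫ f
    rw [Category.id_comp, Category.assoc]
    exact (Over.w t).symm), Over.homMk t.left rfl, Over.OverMorphism.ext (Category.id_comp _)⟩

theorem isHomFamily_unbcFam (hφ' : AutFam.IsHomFamily (Red.bc f G) (Red.bc f H) φ') :
    AutFam.IsHomFamily G H (unbcFam f φ') := by
  intro X g₁ g₂ t
  obtain ⟨Z, k, t₀, ht⟩ := exists_lift_map f t
  rw [← cancel_epi k.hom]
  simp only [MonObj.comp_mul, comp_lift_assoc, ht, comp_unbcFam]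
  refine ((congrArg (bcPoint f H Z).symm ?_).trans (map_mul (bcPointMulEquiv f H Z).symm _ _))
  refine Eq.trans ?_ (hφ' Z _ _ t₀)
  exact congrArg (lift · t₀ ≫ φ') (map_mul (bcPointMulEquiv f G Z) _ _)

theorem bcFam_unbcFam {T' : Over W} (v : T' ⟶ T) :
    bcFam f (unbcFam f φ') ((Over.map f).map v) = (Red.bc f G ◁ v) ≫ φ' := by
  have h := comp_bcFam f (unbcFam f φ') ((Over.map f).map v)
    ((bcPoint f G _).symm (fst (Red.bc f G) T')) (snd (Red.bc f G) T')
  rw [Equiv.apply_symm_apply, lift_fst_snd, Category.id_comp] at h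
  rw [h, ← Functor.map_comp, comp_unbcFam, Equiv.apply_symm_apply, Equiv.apply_symm_apply]
  congr 1

theorem unbcFam_bcFam {T₀ : Over S} (φ : G ⊗ T₀ ⟶ H) (b : (Over.map f).obj T ⟶ T₀) :
    unbcFam f (bcFam f φ b) = (G ◁ b) ≫ φ := by
  obtain ⟨Z, k, t₀, ht⟩ := exists_lift_map f (snd G ((Over.map f).obj T))
  rw [← cancel_epi k.hom]
  have h : k.hom = lift (k.hom ≫ fst _ _) ((Over.map f).map t₀) := by rw [← ht, ← comp_lift, lift_fst_snd, Category.comp_id]
  rw [h, comp_unbcFam, comp_bcFam, Equiv.symm_apply_apply, lift_whiskerLeft_assoc]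

/-- Representing objects of homomorphism functors are stable under base change. -/
theorem representsHom_bc {A : Over S} {υ : G ⊗ A ⟶ H} (h : AutFam.RepresentsHom G H A υ) :
    AutFam.RepresentsHom (Red.bc f G) (Red.bc f H) ((Over.pullback f).obj A)
      (bcFam f υ ((bcPoint f A _).symm (𝟙 _))) := by
  refine ⟨isHomFamily_bcFam f h.1 _, fun T φ' hφ' => ?_⟩
  obtain ⟨a, ha, hau⟩ := h.2 _ _ (isHomFamily_unbcFam f φ' hφ')
  have key : ∀ v : T ⟶ (Over.pullback f).obj A,
      (Red.bc f G ◁ v) ≫ bcFam f υ ((bcPoint f A _).symm (𝟙 _)) = bcFam f υ ((bcPoint f A T).symm v) := by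
    intro v
    have e0 : Red.bc f G ◁ v = lift (fst (Red.bc f G) T) (snd (Red.bc f G) T ≫ v) := by ext <;> simp
    rw [e0]
    have e1 : (Over.map f).map (snd (Red.bc f G) T ≫ v) ≫ (bcPoint f A _).symm (𝟙 _) =
        (Over.map f).map (snd (Red.bc f G) T) ≫ (bcPoint f A T).symm v := by
      rw [Functor.map_comp, Category.assoc]
      congr 1
    have e2 := comp_bcFam f υ ((bcPoint f A _).symm (𝟙 _)) ((bcPoint f G _).symm (fst (Red.bc f G) T))
      (snd (Red.bc f G) T ≫ v)
    rw [Equiv.apply_symm_apply, e1] at e2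
    exact e2
  refine ⟨bcPoint f A T a, ?_, fun v hv => ?_⟩
  · change (Red.bc f G ◁ bcPoint f A T a) ≫ _ = φ'
    rw [key, Equiv.symm_apply_apply]
    have e := bcFam_unbcFam f φ' (𝟙 T)
    rw [CategoryTheory.Functor.map_id, MonoidalCategory.whiskerLeft_id, Category.id_comp] at e
    rw [← e, ← ha, bcFam, bcFam, Category.comp_id, lift_whiskerLeft_assoc]
  · have hv' : bcFam f υ ((bcPoint f A T).symm v) = φ' := (key v).symm.trans hv
    rw [← hau ((bcPoint f A T).symm v) (show _ = _ by rw [← hv', unbcFam_bcFam]), Equiv.apply_symm_apply]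

end baseChange

/-- Representing objects of homomorphism functors transport along isomorphisms of groups. -/
theorem representsHom_iso {G₁ H₁ : Over S} [GrpObj G₁] [GrpObj H₁] (iG : G ≅ G₁) [IsMonHom iG.inv] [IsMonHom iG.hom]
    (iH : H ≅ H₁) [IsMonHom iH.hom] [IsMonHom iH.inv] {A : Over S} {υ : G ⊗ A ⟶ H}
    (h : AutFam.RepresentsHom G H A υ) :
    AutFam.RepresentsHom G₁ H₁ A ((iG.inv ▷ A) ≫ υ ≫ iH.hom) := by
  refine ⟨fun X g₁ g₂ t => ?_, fun T φ hφ => ?_⟩
  · simp only [lift_whiskerRight_assoc, MonObj.mul_comp]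
    rw [← Category.assoc, h.1, MonObj.mul_comp, Category.assoc, Category.assoc]
  have h' : AutFam.IsHomFamily G H ((iG.hom ▷ T) ≫ φ ≫ iH.inv) := fun X g₁ g₂ t => by
    simp only [lift_whiskerRight_assoc, MonObj.mul_comp]
    rw [← Category.assoc, hφ, MonObj.mul_comp, Category.assoc, Category.assoc]
  obtain ⟨a, ha, hau⟩ := h.2 T _ h'
  refine ⟨a, ?_, fun v hv => hau v ?_⟩
  · change (G₁ ◁ a) ≫ (iG.inv ▷ A) ≫ υ ≫ iH.hom = φ
    rw [whisker_exchange_assoc, reassoc_of% ha, Iso.inv_hom_id, Category.comp_id, ← comp_whiskerRight_assoc,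
      Iso.inv_hom_id, id_whiskerRight, Category.id_comp]
  · change (G ◁ v) ≫ υ = _
    have e : (G₁ ◁ v) ≫ (iG.inv ▷ A) ≫ υ ≫ iH.hom = φ := hv
    rw [← e, whisker_exchange_assoc, Category.assoc, ← comp_whiskerRight_assoc, Iso.hom_inv_id, id_whiskerRight,
      Category.id_comp, Category.assoc, Category.assoc, Iso.hom_inv_id, Category.comp_id]

end GrothLib.HomScheme
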