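import Groth.Agent.Lib.HomScheme.Sheaf
import Groth.Agent.Lib.HomScheme.Family
import Groth.Agent.Lib.DiagGrp.CharHom
import Groth.Agent.Lib.DiagGrp.CharLocus
import Groth.Agent.Lib.DiagGrp.SubgroupEq
import Groth.Prelude.Def_TwC

/-!
`Hom(D(M), D(N))` is the constant scheme `Hom(N, M)` for `N` finitely generated.
-/

set_option backward.isDefEq.respectTransparency false

universe u

open CategoryTheory MonoidalCategory CartesianMonoidalCategory MonObj GrpObj AlgebraicGeometry
open CategoryTheory.Limits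
open GrothLib.DiagGrp GrothLib.RepLocal

namespace GrothLib.HomScheme

variable {W : Scheme.{u}} {M N : Type} [AddCommGroup M] [AddCommGroup N]

/-- A character map is determined by its action on a field-valued point. -/
theorem char_unique (v : Red.DS W M ⟶ Red.DS W N) {L : Type u} [Field L] (m : Spec (CommRingCat.of L) ⟶ W)
    {φ ψ : N →+ M} (hφ : TrivOver (v * (Red.DSmap W φ)⁻¹) m) (hψ : TrivOver (v * (Red.DSmap W ψ)⁻¹) m) :
    φ = ψ := by
  let t := Spec.map (CommRingCat.ofHom (MonoidAlgebra.singleOneRingHom (R := L) (M := Multiplicative M))) ≫ m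
  let g := dsPoint M t (MonoidAlgebra.of L (Multiplicative M))
  have h : ∀ {χ : N →+ M}, TrivOver (v * (Red.DSmap W χ)⁻¹) m → g ≫ v = g ≫ Red.DSmap W χ := fun {χ} hχ => by
    have := hχ (Over.mk t) (Spec.map (CommRingCat.ofHom MonoidAlgebra.singleOneRingHom)) rfl g
    rwa [MonObj.comp_mul, GrpObj.comp_inv, mul_inv_eq_one] at this
  have h1 := (h hφ).symm.trans (h hψ)
  rw [dsPoint_DSmap, dsPoint_DSmap] at h1
  have h2 := (dsPoint N t).injective h1
  refine AddMonoidHom.ext fun n => ?_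
  have h3 : Multiplicative.ofAdd (φ n) = Multiplicative.ofAdd (ψ n) :=
    MonoidAlgebra.of_injective (R := L) (DFunLike.congr_fun h2 (Multiplicative.ofAdd n))
  exact Multiplicative.ofAdd.injective h3

/-- A family of homomorphisms of diagonalisable groups is locally given by characters. -/
theorem exists_charDecomp (hN : AddGroup.FG N) {T : Over W} (fam : Red.DS W M ⊗ T ⟶ Red.DS W N)
    (hfam : AutFam.IsHomFamily (Red.DS W M) (Red.DS W N) fam) :
    ∃ U : (N →+ M) → T.left.Opens, TopologicalSpace.IsOpenCover U ∧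
      (∀ φ, (Red.DS W M ◁ opnι T (U φ)) ≫ fam = fst _ _ ≫ Red.DSmap W φ) ∧
      (∀ φ (T' : Over W) (a : T' ⟶ T), (Red.DS W M ◁ a) ≫ fam = fst _ _ ≫ Red.DSmap W φ →
        ∀ t, a.left t ∈ U φ) ∧
      ∀ φ ψ t, t ∈ U φ → t ∈ U ψ → φ = ψ := by
  set g := T.hom
  let v₀ : Red.bc g (Red.DS W M) ⟶ Red.bc g (Red.DS W N) := homOf g fam
  haveI : IsMonHom v₀ := isMonHom_homOf g hfam
  have hterm : Limits.IsTerminal.from specULiftZIsTerminal T.left =
      g ≫ Limits.IsTerminal.from specULiftZIsTerminal W := specULiftZIsTerminal.hom_ext _ _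
  let eM := bcGrpComp (Red.diag (ULift.{u} ℤ) M) (Limits.IsTerminal.from specULiftZIsTerminal W) g
    (Limits.IsTerminal.from specULiftZIsTerminal T.left) hterm
  let eN := bcGrpComp (Red.diag (ULift.{u} ℤ) N) (Limits.IsTerminal.from specULiftZIsTerminal W) g
    (Limits.IsTerminal.from specULiftZIsTerminal T.left) hterm
  let iM : Red.DS T.left M ≅ Red.bc g (Red.DS W M) := (Grp.forget _).mapIso eM
  let iN : Red.DS T.left N ≅ Red.bc g (Red.DS W N) := (Grp.forget _).mapIso eN
  haveI : IsMonHom iM.hom := eM.hom.hom.isMonHom_hom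
  haveI : IsMonHom iN.inv := eN.inv.hom.isMonHom_hom
  let v : Red.DS T.left M ⟶ Red.DS T.left N := iM.hom ≫ v₀ ≫ iN.inv
  have hnat : ∀ φ : N →+ M, Red.DSmap T.left φ ≫ iN.hom = iM.hom ≫ (Over.pullback g).map (Red.DSmap W φ) :=
    fun φ => bcGrpComp_naturality _ _ g _ hterm
  choose U hUc hU hUeq using fun φ : N →+ M => isClopen_charLocus hN v φ
  refine ⟨U, TopologicalSpace.IsOpenCover.mk (eq_top_iff.mpr fun x _ => ?_), fun φ => ?_, fun φ T' a ha t => ?_,
    fun φ ψ t h₁ h₂ => char_unique v (L := T.left.residueField t) (T.left.fromSpecResidueField t) ((hU φ t).mp h₁) ((hU ψ t).mp h₂)⟩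
  · obtain ⟨φ, hφ⟩ := exists_char v (L := T.left.residueField x) (T.left.fromSpecResidueField x)
    exact TopologicalSpace.Opens.mem_iSup.mpr ⟨φ, (hU φ x).mpr hφ⟩
  · have h1 : (Over.pullback (U φ).ι).map v₀ = (Over.pullback (U φ).ι).map ((Over.pullback g).map (Red.DSmap W φ)) := by
      have e1 : v₀ = iM.inv ≫ v ≫ iN.hom := by simp [v]
      rw [e1, Functor.map_comp, Functor.map_comp, hUeq φ, ← Functor.map_comp, ← Functor.map_comp, hnat,
        Iso.inv_hom_id_assoc]
    let Y := Red.DS W M ⊗ opn T (U φ)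
    have ha : ((snd (Red.DS W M) (opn T (U φ))).left ≫ (U φ).ι) ≫ g = Y.hom := by
      rw [Category.assoc]
      exact Over.w (snd (Red.DS W M) (opn T (U φ)))
    have h3 := ev_homOf g fam _ ha (fst (Red.DS W M) (opn T (U φ)))
    have h4 : DescentHom.ev g v₀ _ ha (fst (Red.DS W M) (opn T (U φ))) =
        DescentHom.ev g ((Over.pullback g).map (Red.DSmap W φ)) _ ha (fst (Red.DS W M) (opn T (U φ))) := by
      simp only [DescentHom.ev]
      exact congrArg (fun z => _ ≫ (bcPointMulEquiv g (Red.DS W N) _).symm z)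
        (comp_eq_of_bc (U φ).ι h1 (Y := Over.mk ((snd (Red.DS W M) (opn T (U φ))).left ≫ (U φ).ι))
          (snd (Red.DS W M) (opn T (U φ))).left rfl _)
    rw [h4, ← DescentHom.eq_ev_of_map_eq g _ (Red.DSmap W φ) rfl] at h3
    rw [h3]
    refine congrArg (· ≫ fam) ?_
    apply CartesianMonoidalCategory.hom_ext
    · rw [whiskerLeft_fst]
      exact (lift_fst _ _).symm
    · rw [whiskerLeft_snd, lift_snd]
      exact Over.OverMorphism.ext rfl
  · have := isMonHom_mul_inv (mul_comm_of_charts (hasChartsFpqc_DS (M := N) T.left fgM hN)) v (Red.DSmap T.left φ)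
    have ht : TrivOver (v * (Red.DSmap T.left φ)⁻¹) a.left := by
      intro Y τ hτ y
      rw [MonObj.comp_mul, GrpObj.comp_inv, mul_inv_eq_one]
      obtain ⟨z, hz⟩ := (bcPoint g (Red.DS W M) Y).surjective (y ≫ iM.hom)
      have e1 : y = bcPoint g (Red.DS W M) Y z ≫ iM.inv := by
        rw [hz, Category.assoc, Iso.hom_inv_id, Category.comp_id]
      rw [← cancel_mono iN.hom, Category.assoc, Category.assoc, Category.assoc y (Red.DSmap T.left φ), hnat, e1]
      simp only [v, Category.assoc, Iso.inv_hom_id_assoc, Iso.inv_hom_id, Category.comp_id]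
      rw [← bcPoint_comp_right]
      refine (comp_homOf g fam z).trans (congrArg (bcPoint g _ Y) ?_)
      let τ' : (Over.map g).obj Y ⟶ T' := Over.homMk τ (by
        change τ ≫ T'.hom = Y.hom ≫ g
        rw [← hτ, Category.assoc]
        exact congrArg (τ ≫ ·) (Over.w a).symm)
      have e2 : (Over.homMk (V := Over.mk g) Y.hom rfl : (Over.map g).obj Y ⟶ T) = τ' ≫ a :=
        Over.OverMorphism.ext hτ.symm
      rw [e2, ← lift_whiskerLeft_assoc, ha, lift_fst_assoc]
    have hf := (trivOver_field_iff (v * (Red.DSmap T.left φ)⁻¹) (L := T'.left.residueField t)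
      (T'.left.fromSpecResidueField t ≫ a.left)).mp (ht.precomp _ _ rfl)
    have hp : (T'.left.fromSpecResidueField t ≫ a.left) (IsLocalRing.closedPoint (T'.left.residueField t)) =
        a.left t := congrArg a.left (Scheme.fromSpecResidueField_apply _ _)
    exact (hU φ _).mpr
      ((congrArg (fun p => TrivOver (v * (Red.DSmap T.left φ)⁻¹) (T.left.fromSpecResidueField p)) hp).mp hf)

variable (W M N) in
/-- The constant scheme of character maps. -/
noncomputable abbrev constHom : Over W := TwC.const W (ULift.{u} (N →+ M))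

variable (W) in
/-- A piece of the constant scheme. -/
noncomputable def piece (φ : N →+ M) : (constHom W M N).left.Opens :=
  (Sigma.ι (fun _ : ULift.{u} (N →+ M) => W) ⟨φ⟩).opensRange

theorem isOpenCover_piece : TopologicalSpace.IsOpenCover (piece W (M := M) (N := N)) :=
  TopologicalSpace.IsOpenCover.mk (eq_top_iff.mpr fun x _ => by
    obtain ⟨i, y, hy⟩ := (sigmaOpenCover (fun _ : ULift.{u} (N →+ M) => W)).exists_eq x
    exact TopologicalSpace.Opens.mem_iSup.mpr ⟨i.down, y, hy⟩)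

theorem piece_unique {φ ψ : N →+ M} {x : (constHom W M N).left} (h₁ : x ∈ piece W φ) (h₂ : x ∈ piece W ψ) :
    φ = ψ := by
  by_contra h
  exact (disjoint_opensRange_sigmaι (fun _ : ULift.{u} (N →+ M) => W) ⟨φ⟩ ⟨ψ⟩ fun e => h (congrArg ULift.down e)).le_bot
    ⟨h₁, h₂⟩

/-- A morphism into a piece is the constant one. -/
theorem eq_pt_of_mem {T : Over W} (a : T ⟶ constHom W M N) (φ : N →+ M) (h : ∀ t, a.left t ∈ piece W φ) :
    a = toUnit T ≫ TwC.pt W (ULift.{u} (N →+ M)) ⟨φ⟩ := by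
  let ιφ := Sigma.ι (fun _ : ULift.{u} (N →+ M) => W) ⟨φ⟩
  let l := IsOpenImmersion.lift ιφ a.left (by rintro _ ⟨t, rfl⟩; exact h t)
  have hl : l ≫ ιφ = a.left := IsOpenImmersion.lift_fac _ _ _
  apply Over.OverMorphism.ext
  have : l = T.hom := by
    rw [← Over.w a, ← hl, Category.assoc]
    change l = l ≫ ιφ ≫ Sigma.desc _
    rw [Sigma.ι_desc, Category.comp_id]
  rw [← hl, this]
  change _ = (toUnit T).left ≫ ιφ
  congr 1

/-- `Hom(D(M), D(N))` is the constant scheme of character maps. -/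
theorem representsHom_const (hN : AddGroup.FG N) :
    ∃ υ : Red.DS W M ⊗ constHom W M N ⟶ Red.DS W N,
      AutFam.RepresentsHom (Red.DS W M) (Red.DS W N) (constHom W M N) υ ∧
      ∀ φ, (Red.DS W M ◁ TwC.pt W (ULift.{u} (N →+ M)) ⟨φ⟩) ≫ υ = fst _ _ ≫ Red.DSmap W φ := by
  have hpc : TopologicalSpace.IsOpenCover fun i : ULift.{u} (N →+ M) => piece W i.down :=
    TopologicalSpace.IsOpenCover.mk (eq_top_iff.mpr fun x _ => by
      obtain ⟨φ, hφ⟩ := (isOpenCover_piece (W := W) (M := M) (N := N)).exists_mem x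
      exact TopologicalSpace.Opens.mem_iSup.mpr ⟨⟨φ⟩, hφ⟩)
  obtain ⟨υ, hυ, -⟩ := isSheaf_homPsh (Red.DS W M) (Red.DS W N) (constHom W M N) _ hpc
    (fun i => fst _ _ ≫ Red.DSmap W i.down) fun i j => by
      by_cases h : i = j
      · subst h; rfl
      · haveI : IsEmpty (Red.DS W M ⊗ opn (constHom W M N) (piece W i.down ⊓ piece W j.down)).left := ⟨fun z =>
          h (ULift.ext _ _ (piece_unique ((snd (Red.DS W M) (opn (constHom W M N) (piece W i.down ⊓ piece W j.down))).left z).2.1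
            ((snd (Red.DS W M) (opn (constHom W M N) (piece W i.down ⊓ piece W j.down))).left z).2.2))⟩
        exact Over.OverMorphism.ext (isInitialOfIsEmpty.hom_ext _ _)
  have hpiece : ∀ φ, (Red.DS W M ◁ opnι (constHom W M N) (piece W φ)) ≫ υ = fst _ _ ≫ Red.DSmap W φ :=
    fun φ => hυ ⟨φ⟩
  have hfac : ∀ φ {T : Over W} (a : T ⟶ constHom W M N), (∀ t, a.left t ∈ piece W φ) →
      (Red.DS W M ◁ a) ≫ υ = fst _ _ ≫ Red.DSmap W φ := fun φ T a ha => by
    let l := IsOpenImmersion.lift (piece W φ).ι a.left (by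
      rintro _ ⟨t, rfl⟩
      exact (Scheme.Opens.range_ι _).ge (ha t))
    let a' : T ⟶ opn (constHom W M N) (piece W φ) := Over.homMk l (by
      change l ≫ (piece W φ).ι ≫ (constHom W M N).hom = T.hom
      rw [IsOpenImmersion.lift_fac_assoc]
      exact Over.w a)
    have : a' ≫ opnι _ _ = a := Over.OverMorphism.ext (IsOpenImmersion.lift_fac _ _ _)
    rw [← this, MonoidalCategory.whiskerLeft_comp, Category.assoc, hpiece, whiskerLeft_fst_assoc]
  have hpt : ∀ φ, (Red.DS W M ◁ TwC.pt W (ULift.{u} (N →+ M)) ⟨φ⟩) ≫ υ = fst _ _ ≫ Red.DSmap W φ :=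
    fun φ => hfac φ _ fun t => ⟨t, rfl⟩
  have hfam : AutFam.IsHomFamily (Red.DS W M) (Red.DS W N) υ := by
    intro X g₁ g₂ t
    refine hom_ext_opens (fun i : ULift.{u} (N →+ M) => t.left ⁻¹ᵁ piece W i.down)
      (TopologicalSpace.IsOpenCover.mk (eq_top_iff.mpr fun x _ => by
        obtain ⟨φ, hφ⟩ := (isOpenCover_piece (W := W) (M := M) (N := N)).exists_mem (t.left x)
        exact TopologicalSpace.Opens.mem_iSup.mpr ⟨⟨φ⟩, hφ⟩)) fun i => ?_
    have key : ∀ g : X ⟶ Red.DS W M, opnι X (t.left ⁻¹ᵁ piece W i.down) ≫ lift g t ≫ υ =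
        (opnι X (t.left ⁻¹ᵁ piece W i.down) ≫ g) ≫ Red.DSmap W i.down := fun g => by
      have h := hfac i.down (opnι X (t.left ⁻¹ᵁ piece W i.down) ≫ t) fun x => x.2
      rw [comp_lift_assoc]
      have : lift (opnι X (t.left ⁻¹ᵁ piece W i.down) ≫ g) (opnι X (t.left ⁻¹ᵁ piece W i.down) ≫ t) =
          lift (opnι X (t.left ⁻¹ᵁ piece W i.down) ≫ g) (𝟙 _) ≫
            (Red.DS W M ◁ (opnι X (t.left ⁻¹ᵁ piece W i.down) ≫ t)) := by simp
      rw [this, Category.assoc, h, lift_fst_assoc]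
    rw [MonObj.comp_mul, key, key, key, MonObj.comp_mul]
    exact MonObj.mul_comp _ _ (Red.DSmap W i.down)
  refine ⟨υ, ⟨hfam, fun T fam hfam' => ?_⟩, hpt⟩
  obtain ⟨U, hU, hUeq, hUmax, hUu⟩ := exists_charDecomp hN fam hfam'
  have hU' : TopologicalSpace.IsOpenCover fun i : ULift.{u} (N →+ M) => U i.down :=
    TopologicalSpace.IsOpenCover.mk (eq_top_iff.mpr fun x _ => by
      obtain ⟨φ, hφ⟩ := hU.exists_mem x
      exact TopologicalSpace.Opens.mem_iSup.mpr ⟨⟨φ⟩, hφ⟩)
  obtain ⟨a, ha⟩ := exists_glue_opens (Z := constHom W M N) _ hU'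
    (fun i => toUnit _ ≫ TwC.pt W (ULift.{u} (N →+ M)) i) fun i j => by
      by_cases h : i = j
      · subst h; rfl
      · haveI : IsEmpty (opn T (U i.down ⊓ U j.down)).left :=
          ⟨fun z => h (ULift.ext _ _ (hUu _ _ _ z.2.1 z.2.2))⟩
        exact Over.OverMorphism.ext (isInitialOfIsEmpty.hom_ext _ _)
  refine ⟨a, ?_, fun b hb => hom_ext_opens _ hU' fun i => ?_⟩
  · refine IsSheaf.ext (isSheaf_homPsh (Red.DS W M) (Red.DS W N)) _ hU' fun i => ?_
    change (Red.DS W M ◁ opnι T (U i.down)) ≫ (Red.DS W M ◁ a) ≫ υ = (Red.DS W M ◁ opnι T (U i.down)) ≫ fam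
    rw [hUeq, ← Category.assoc, ← MonoidalCategory.whiskerLeft_comp, ha, MonoidalCategory.whiskerLeft_comp,
      Category.assoc, hpt, whiskerLeft_fst_assoc]
  · rw [ha]
    refine eq_pt_of_mem _ i.down fun t => ?_
    obtain ⟨ψ, hψ⟩ := (isOpenCover_piece (W := W) (M := M) (N := N)).exists_mem (b.left t.1)
    have hmem := hUmax ψ (opn T (b.left ⁻¹ᵁ piece W ψ)) (opnι _ _) (by
      rw [← hb, ← Category.assoc, ← MonoidalCategory.whiskerLeft_comp]
      exact hfac ψ _ fun x => x.2) ⟨t.1, hψ⟩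
    obtain rfl : i.down = ψ := hUu _ _ _ t.2 hmem
    exact hψ

end GrothLib.HomScheme
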