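import Groth.Agent.Lib.HomScheme.Descend
import Groth.Agent.Lib.HomScheme.ConstHom
import Groth.Agent.Lib.HomScheme.Const
import Groth.Agent.Lib.DiagGrp.ChartCover

/-!
Homomorphisms between quasi-isotrivial groups of multiplicative type form a twisted constant scheme.
-/

set_option backward.isDefEq.respectTransparency false

universe u

open CategoryTheory MonoidalCategory CartesianMonoidalCategory MonObj GrpObj AlgebraicGeometry
open CategoryTheory.Limits
open GrothLib.DiagGrp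

namespace GrothLib.HomScheme

variable {S : Scheme.{u}} {H G : Over S} [GrpObj H] [GrpObj G]

/-- Where both groups are diagonalisable the scheme of homomorphisms is constant. -/
theorem exists_rep_chart {V : Scheme.{u}} (f : V ⟶ S) (hH : HasChart anyM H f) (hG : HasChart fgM G f) :
    ∃ (I : Type u) (υ : Red.bc f H ⊗ TwC.const V I ⟶ Red.bc f G),
      AutFam.RepresentsHom (Red.bc f H) (Red.bc f G) (TwC.const V I) υ := by
  obtain ⟨M, instM, -, ⟨eH⟩⟩ := hH
  obtain ⟨N, instN, hN, ⟨eG⟩⟩ := hG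
  letI := instM
  letI := instN
  let iH : Red.DS V M ≅ Red.bc f H := (Grp.forget (Over V)).mapIso eH.symm
  let iG : Red.DS V N ≅ Red.bc f G := (Grp.forget (Over V)).mapIso eG.symm
  haveI : IsMonHom iH.inv := eH.hom.hom.isMonHom_hom
  haveI : IsMonHom iH.hom := eH.inv.hom.isMonHom_hom
  haveI : IsMonHom iG.inv := eG.hom.hom.isMonHom_hom
  haveI : IsMonHom iG.hom := eG.inv.hom.isMonHom_hom
  obtain ⟨υ, hυ, -⟩ := representsHom_const (W := V) (M := M) hN
  exact ⟨_, _, representsHom_iso iH iG hυ⟩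

theorem exists_common_chart
    (hH : ∀ s : S, ∃ (V : Scheme.{u}) (f : V ⟶ S), Etale f ∧ s ∈ Set.range f.base ∧ HasChart anyM H f)
    (hG : ∀ s : S, ∃ (V : Scheme.{u}) (f : V ⟶ S), Etale f ∧ s ∈ Set.range f.base ∧ HasChart fgM G f) (s : S) :
    ∃ (V : Scheme.{u}) (f : V ⟶ S), Etale f ∧ s ∈ Set.range f.base ∧ HasChart anyM H f ∧ HasChart fgM G f := by
  obtain ⟨V₁, f₁, h₁, ⟨x₁, hx₁⟩, hc₁⟩ := hH s
  obtain ⟨V₂, f₂, h₂, ⟨x₂, hx₂⟩, hc₂⟩ := hG s
  haveI := h₁
  haveI := h₂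
  obtain ⟨z, hz₁, hz₂⟩ := Scheme.Pullback.exists_preimage_pullback x₁ x₂ (hx₁.trans hx₂.symm)
  refine ⟨pullback f₁ f₂, pullback.fst f₁ f₂ ≫ f₁, inferInstance, ⟨z, ?_⟩, hc₁.precomp _ _ rfl,
    hc₂.precomp (pullback.snd f₁ f₂) _ pullback.condition⟩
  rw [Scheme.Hom.comp_apply, hz₁, hx₁]

/-- The scheme of homomorphisms between quasi-isotrivial groups of multiplicative type. -/
theorem exists_rep_quasiIsotrivial
    (hH : ∀ s : S, ∃ (V : Scheme.{u}) (f : V ⟶ S), Etale f ∧ s ∈ Set.range f.base ∧ HasChart anyM H f)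
    (hG : ∀ s : S, ∃ (V : Scheme.{u}) (f : V ⟶ S), Etale f ∧ s ∈ Set.range f.base ∧ HasChart fgM G f) :
    ∃ (A : Over S) (υ : H ⊗ A ⟶ G), AutFam.RepresentsHom H G A υ ∧ TwC.IsTwConst TwC.Topology.etale A := by
  obtain ⟨A, υ, hA⟩ := exists_rep_of_etale_local (H := H) (G := G) fun s => by
    obtain ⟨V, f, hf, hs, hcH, hcG⟩ := exists_common_chart hH hG s
    obtain ⟨I, υ, hυ⟩ := exists_rep_chart f hcH hcG
    haveI := etale_const V I
    exact ⟨V, f, hf, hs, _, υ, hυ, lqf_const V I, inferInstance, isSeparated_const V I⟩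
  refine ⟨A, υ, hA, fun s => ?_⟩
  obtain ⟨V, f, hf, hs, hcH, hcG⟩ := exists_common_chart hH hG s
  obtain ⟨I, υ', hυ'⟩ := exists_rep_chart f hcH hcG
  obtain ⟨e, -⟩ := representsHom_unique (representsHom_bc f hA) hυ'
  exact ⟨V, f, hf, hs, I, ⟨e⟩⟩

end GrothLib.HomScheme
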