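import Mathlib.CategoryTheory.Monoidal.Cartesian.Grp
import Groth.Agent.Lib.HomScheme.QuasiIsotrivial
import Groth.Agent.Lib.DiagGrp.BaseChange

/-!
The group of homomorphisms into a commutative group; character groups of quasi-isotrivial groups.
-/

set_option backward.isDefEq.respectTransparency false

universe u

open CategoryTheory MonoidalCategory CartesianMonoidalCategory MonObj GrpObj AlgebraicGeometry
open CategoryTheory.Limits Opposite
open GrothLib.DiagGrp

namespace GrothLib.HomScheme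

variable {S : Scheme.{u}}

theorem isHomFamily_mul {H G : Over S} [GrpObj H] [GrpObj G] (hG : ∀ (Y : Over S) (a b : Y ⟶ G), a * b = b * a)
    {T : Over S} {φ ψ : H ⊗ T ⟶ G} (hφ : AutFam.IsHomFamily H G φ) (hψ : AutFam.IsHomFamily H G ψ) :
    AutFam.IsHomFamily H G (φ * ψ) := fun X g₁ g₂ t => by
  letI : CommGroup (X ⟶ G) := { (inferInstance : Group (X ⟶ G)) with mul_comm := hG X }
  rw [MonObj.comp_mul, MonObj.comp_mul, MonObj.comp_mul, hφ, hψ]
  exact mul_mul_mul_comm _ _ _ _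

/-- Representing schemes of homomorphisms into a commutative group are groups, by pointwise product. -/
theorem exists_grpObj_hom {H G : Over S} [GrpObj H] [GrpObj G] (hG : ∀ (Y : Over S) (a b : Y ⟶ G), a * b = b * a)
    {D : Over S} {υ : H ⊗ D ⟶ G} (hD : AutFam.RepresentsHom H G D υ) :
    ∃ _ : GrpObj D, ∀ (X : Over S) (h : X ⟶ H) (a b : X ⟶ D),
      lift h (a * b) ≫ υ = (lift h a ≫ υ) * (lift h b ≫ υ) := by
  let sub : ∀ T : Over S, Subgroup (H ⊗ T ⟶ G) := fun T =>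
    { carrier := {φ | AutFam.IsHomFamily H G φ}
      mul_mem' := fun {a b} ha hb => isHomFamily_mul hG ha hb
      one_mem' := fun X g₁ g₂ t => by simp [MonObj.comp_one]
      inv_mem' := fun {a} ha X g₁ g₂ t => by
        letI : CommGroup (X ⟶ G) := { (inferInstance : Group (X ⟶ G)) with mul_comm := hG X }
        rw [GrpObj.comp_inv, GrpObj.comp_inv, GrpObj.comp_inv, ha]
        exact mul_inv _ _ }
  let F : (Over S)ᵒᵖ ⥤ GrpCat.{u} :=
    { obj := fun T => GrpCat.of (sub T.unop)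
      map := fun f => GrpCat.ofHom
        { toFun := fun φ => ⟨(H ◁ f.unop) ≫ φ.1, isHomFamily_bc_whisker φ.2 f.unop⟩
          map_one' := Subtype.ext (MonObj.comp_one (H ◁ f.unop))
          map_mul' := fun a b => Subtype.ext (MonObj.comp_mul (H ◁ f.unop) a.1 b.1) }
      map_id := fun T => by
        ext φ
        refine congrArg (fun z => z) ?_
        simp
      map_comp := fun f g => by
        ext φ
        simp }
  let α : (F ⋙ forget _).RepresentableBy D :=
    { homEquiv := fun {T} =>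
        { toFun := fun a => ⟨(H ◁ a) ≫ υ, isHomFamily_bc_whisker hD.1 a⟩
          invFun := fun φ => (hD.2 T φ.1 φ.2).choose
          left_inv := fun a => ((hD.2 T _ (isHomFamily_bc_whisker hD.1 a)).choose_spec.2 a rfl).symm
          right_inv := fun φ => Subtype.ext (hD.2 T φ.1 φ.2).choose_spec.1 }
      homEquiv_comp := fun {T T'} f a => Subtype.ext (by
        change (H ◁ (f ≫ a)) ≫ υ = (H ◁ f) ≫ (H ◁ a) ≫ υ
        rw [MonoidalCategory.whiskerLeft_comp, Category.assoc]) }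
  letI := GrpObj.ofRepresentableBy D F α
  refine ⟨inferInstance, fun X h a b => ?_⟩
  have e : α.homEquiv (a * b) = α.homEquiv a * α.homEquiv b := by
    change α.homEquiv (lift a b ≫ α.homEquiv.symm (α.homEquiv (fst D D) * α.homEquiv (snd D D))) = _
    rw [α.homEquiv_comp, Equiv.apply_symm_apply]
    apply Subtype.ext
    change (H ◁ lift a b) ≫ (((H ◁ fst D D) ≫ υ) * ((H ◁ snd D D) ≫ υ)) = ((H ◁ a) ≫ υ) * ((H ◁ b) ≫ υ)
    rw [MonObj.comp_mul, ← Category.assoc, ← MonoidalCategory.whiskerLeft_comp, lift_fst, ← Category.assoc,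
      ← MonoidalCategory.whiskerLeft_comp, lift_snd]
  have e' : (H ◁ (a * b)) ≫ υ = ((H ◁ a) ≫ υ) * ((H ◁ b) ≫ υ) := congrArg Subtype.val e
  have hl : ∀ c : X ⟶ D, lift h c ≫ υ = lift h (𝟙 X) ≫ (H ◁ c) ≫ υ := fun c => by
    rw [lift_whiskerLeft_assoc, Category.id_comp]
  rw [hl, e', MonObj.comp_mul, ← hl, ← hl]
where
  isHomFamily_bc_whisker {H G : Over S} [GrpObj H] [GrpObj G] {T T' : Over S} {φ : H ⊗ T ⟶ G}
      (hφ : AutFam.IsHomFamily H G φ) (f : T' ⟶ T) : AutFam.IsHomFamily H G ((H ◁ f) ≫ φ) :=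
    isHomFamily_whiskerLeft hφ f

theorem DSmap_add {W : Scheme.{u}} {M N : Type} [AddCommGroup M] [AddCommGroup N] (φ ψ : N →+ M) :
    Red.DSmap W (φ + ψ) = Red.DSmap W φ * Red.DSmap W ψ := by
  refine ds_hom_ext fun C _ p χ => ?_
  rw [MonObj.comp_mul, dsPoint_DSmap, dsPoint_DSmap, dsPoint_DSmap, ← map_mul]
  refine congrArg _ (MonoidHom.ext fun n => ?_)
  change χ (Multiplicative.ofAdd (φ n.toAdd + ψ n.toAdd)) = _
  rw [ofAdd_add, map_mul]
  rfl

/-- Character groups of quasi-isotrivial groups of multiplicative type are twisted constant groups. -/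
theorem exists_dual {H : Over S} [GrpObj H]
    (hH : ∀ s : S, ∃ (V : Scheme.{u}) (f : V ⟶ S), Etale f ∧ s ∈ Set.range f.base ∧ HasChart anyM H f) :
    ∃ (D : Over S) (_ : GrpObj D) (υ : H ⊗ D ⟶ Red.Gm S), AutFam.RepresentsHom H (Red.Gm S) D υ ∧
      (∀ (X : Over S) (h : X ⟶ H) (a b : X ⟶ D), lift h (a * b) ≫ υ = (lift h a ≫ υ) * (lift h b ≫ υ)) ∧
      TwC.IsTwConstGrp TwC.Topology.etale D := by
  have hZ : AddGroup.FG ℤ := inferInstance
  have hGm : ∀ {V : Scheme.{u}} (f : V ⟶ S), HasChart fgM (Red.Gm S) f := fun f =>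
    ⟨ℤ, inferInstance, hZ, ⟨(bcGrpComp (Red.diag (ULift.{u} ℤ) ℤ) (Limits.IsTerminal.from specULiftZIsTerminal S) f
      (Limits.IsTerminal.from specULiftZIsTerminal _) (specULiftZIsTerminal.hom_ext _ _)).symm⟩⟩
  obtain ⟨D, υ, hD, -⟩ := exists_rep_quasiIsotrivial (H := H) (G := Red.Gm S) hH fun s =>
    ⟨S, 𝟙 S, inferInstance, ⟨s, rfl⟩, hGm _⟩
  obtain ⟨grp, hmul⟩ := exists_grpObj_hom (mul_comm_of_charts (hasChartsFpqc_DS (M := ℤ) S fgM hZ)) hD
  letI := grp
  refine ⟨D, inferInstance, υ, hD, hmul, fun s => ?_⟩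
  obtain ⟨V, f, hf, hs, ⟨M, instM, -, ⟨eH⟩⟩⟩ := hH s
  obtain ⟨N, instN, hN, ⟨eG⟩⟩ := hGm f
  letI := instM
  letI := instN
  let iH : Red.DS V M ≅ Red.bc f H := (Grp.forget (Over V)).mapIso eH.symm
  let iG : Red.DS V N ≅ Red.bc f (Red.Gm S) := (Grp.forget (Over V)).mapIso eG.symm
  haveI : IsMonHom iH.inv := eH.hom.hom.isMonHom_hom
  haveI : IsMonHom iH.hom := eH.inv.hom.isMonHom_hom
  haveI : IsMonHom iG.inv := eG.hom.hom.isMonHom_hom
  haveI : IsMonHom iG.hom := eG.inv.hom.isMonHom_hom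
  obtain ⟨υc, hυc, hpt⟩ := representsHom_const (W := V) (M := M) hN
  have hbc := representsHom_bc f hD
  obtain ⟨e, he⟩ := representsHom_unique hbc (representsHom_iso iH iG hυc)
  let I := Multiplicative (ULift.{u} (N →+ M))
  refine ⟨V, f, hf, hs, I, inferInstance, e, fun m n => ?_⟩
  set υb := bcFam f υ ((bcPoint f D _).symm (𝟙 (Red.bc f D)))
  have hval : ∀ m : I, (Red.bc f H ◁ (TwC.pt V I m ≫ e.inv)) ≫ υb =
      fst _ _ ≫ iH.inv ≫ Red.DSmap V (Multiplicative.toAdd m).down ≫ iG.hom := fun m => by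
    rw [← he, ← Category.assoc, ← MonoidalCategory.whiskerLeft_comp, Category.assoc, Iso.inv_hom_id,
      Category.comp_id, whisker_exchange_assoc]
    refine Eq.trans (congrArg ((iH.inv ▷ _) ≫ ·) ((Category.assoc _ _ _).symm.trans
      (congrArg (· ≫ iG.hom) (hpt (Multiplicative.toAdd m).down)))) ?_
    rw [Category.assoc, whiskerRight_fst_assoc]
  have hmul' : ∀ {X : Over V} (a b : X ⟶ Red.bc f D),
      (Red.bc f H ◁ (a * b)) ≫ υb = ((Red.bc f H ◁ a) ≫ υb) * ((Red.bc f H ◁ b) ≫ υb) := by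
    intro X a b
    have hz : ∀ (Z : Over V) (z : (Over.map f).obj Z ⟶ H) (t : Z ⟶ Red.bc f D),
        lift (bcPoint f H Z z) t ≫ υb = bcPoint f (Red.Gm S) Z (lift z ((bcPointMulEquiv f D Z).symm t) ≫ υ) := by
      intro Z z t
      refine (comp_bcFam f υ ((bcPoint f D _).symm (𝟙 (Red.bc f D))) z t).trans ?_
      refine congrArg (bcPoint f (Red.Gm S) Z) (congrArg (fun s => lift z s ≫ υ) ?_)
      apply (bcPoint f D Z).injective
      rw [bcPoint_comp, Equiv.apply_symm_apply, Category.comp_id]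
      exact ((bcPoint f D Z).apply_symm_apply t).symm
    have hfun : ∀ c : X ⟶ Red.bc f D, (Red.bc f H ◁ c) ≫ υb =
        bcPoint f (Red.Gm S) _ (lift ((bcPoint f H _).symm (fst (Red.bc f H) X))
          ((bcPointMulEquiv f D _).symm (snd (Red.bc f H) X ≫ c)) ≫ υ) := fun c => by
      have h1 := hz _ ((bcPoint f H _).symm (fst (Red.bc f H) X)) (snd (Red.bc f H) X ≫ c)
      rw [Equiv.apply_symm_apply] at h1
      rw [← h1]
      congr 1
    rw [hfun, hfun, hfun, MonObj.comp_mul, map_mul, hmul]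
    exact map_mul (bcPointMulEquiv f (Red.Gm S) _) _ _
  refine (hbc.2 _ _ (fun X g₁ g₂ t => by
    rw [lift_whiskerLeft_assoc, lift_whiskerLeft_assoc, lift_whiskerLeft_assoc]
    exact hbc.1 X g₁ g₂ _)).unique ?_ (rfl : (Red.bc f H ◁ (TwC.pt V I (m * n) ≫ e.inv)) ≫ υb = _)
  rw [hmul', hval, hval, hval, ← MonObj.comp_mul]
  refine congrArg (fst _ _ ≫ ·) ?_
  refine (MonObj.comp_mul iH.inv _ _).symm.trans (congrArg (iH.inv ≫ ·) ?_)
  exact (MonObj.mul_comp _ _ iG.hom).symm.trans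
    (congrArg (· ≫ iG.hom) (DSmap_add (Multiplicative.toAdd m).down (Multiplicative.toAdd n).down).symm)

end GrothLib.HomScheme
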