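import Mathlib.CategoryTheory.Monoidal.Cartesian.Over
import Groth.Agent.Lib.RepLocal.Sheaf

/-!
The presheaf `T ↦ Hom_S(X ×_S T, Y)` is a Zariski sheaf.
-/

set_option backward.isDefEq.respectTransparency false

universe u

open CategoryTheory CategoryTheory.Limits MonoidalCategory CartesianMonoidalCategory AlgebraicGeometry

namespace GrothLib.HomScheme

open GrothLib.RepLocal

variable {S : Scheme.{u}}

/-- The presheaf of families of morphisms from `X` to `Y`. -/
noncomputable def homPsh (X Y : Over S) : Psh.{u} S where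
  obj T := X ⊗ T ⟶ Y
  map f φ := (X ◁ f) ≫ φ
  map_id T φ := by rw [MonoidalCategory.whiskerLeft_id, Category.id_comp]
  map_comp f g φ := by rw [MonoidalCategory.whiskerLeft_comp, Category.assoc]

theorem homPsh_map {X Y T T' : Over S} (f : T' ⟶ T) (φ : X ⊗ T ⟶ Y) :
    (homPsh X Y).map f φ = (X ◁ f) ≫ φ := rfl

theorem mono_whiskerLeft (X : Over S) {T T' : Over S} (f : T' ⟶ T) [Mono f] : Mono (X ◁ f) := by
  constructor
  intro Z a b h
  apply CartesianMonoidalCategory.hom_ext
  · simpa using congrArg (· ≫ fst X T) h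
  · rw [← cancel_mono f]
    simpa using congrArg (· ≫ snd X T) h

/-- An open of the product coming from an open of the second factor. -/
noncomputable def toProd (X : Over S) (T : Over S) (V : T.left.Opens) :
    opn (X ⊗ T) ((snd X T).left ⁻¹ᵁ V) ⟶ X ⊗ opn T V :=
  lift (opnι _ _ ≫ fst X T) (Over.homMk ((snd X T).left ∣_ V) (by
    change (snd X T).left ∣_ V ≫ V.ι ≫ T.hom = ((snd X T).left ⁻¹ᵁ V).ι ≫ (X ⊗ T).hom
    rw [morphismRestrict_ι_assoc, Over.w (snd X T)]))

theorem toProd_whiskerLeft (X : Over S) (T : Over S) (V : T.left.Opens) :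
    toProd X T V ≫ (X ◁ opnι T V) = opnι _ _ := by
  apply CartesianMonoidalCategory.hom_ext
  · simp [toProd]
  · rw [Category.assoc, whiskerLeft_snd, ← Category.assoc, toProd, lift_snd]
    exact Over.OverMorphism.ext (morphismRestrict_ι _ _)

/-- Back from the product with an open. -/
noncomputable def ofProd (X : Over S) (T : Over S) (V : T.left.Opens) :
    X ⊗ opn T V ⟶ opn (X ⊗ T) ((snd X T).left ⁻¹ᵁ V) :=
  Over.homMk (IsOpenImmersion.lift ((snd X T).left ⁻¹ᵁ V).ι (X ◁ opnι T V).left (by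
    rintro _ ⟨z, rfl⟩
    refine (Scheme.Opens.range_ι _).ge ?_
    have h : (X ◁ opnι T V).left ≫ (snd X T).left = (snd X (opn T V)).left ≫ V.ι :=
      congrArg (fun t => t.left) (whiskerLeft_snd X (opnι T V))
    change (snd X T).left ((X ◁ opnι T V).left z) ∈ V
    rw [← Scheme.Hom.comp_apply, h, Scheme.Hom.comp_apply]
    exact ((snd X (opn T V)).left z).2)) (by
    change IsOpenImmersion.lift _ _ _ ≫ ((snd X T).left ⁻¹ᵁ V).ι ≫ (X ⊗ T).hom = _
    rw [IsOpenImmersion.lift_fac_assoc]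
    exact Over.w (X ◁ opnι T V))

theorem ofProd_opnι (X : Over S) (T : Over S) (V : T.left.Opens) :
    ofProd X T V ≫ opnι _ _ = X ◁ opnι T V :=
  Over.OverMorphism.ext (IsOpenImmersion.lift_fac _ _ _)

theorem ofProd_toProd (X : Over S) (T : Over S) (V : T.left.Opens) : ofProd X T V ≫ toProd X T V = 𝟙 _ := by
  haveI := mono_whiskerLeft X (opnι T V)
  rw [← cancel_mono (X ◁ opnι T V), Category.assoc, toProd_whiskerLeft, ofProd_opnι, Category.id_comp]

theorem toProd_ofProd (X : Over S) (T : Over S) (V : T.left.Opens) : toProd X T V ≫ ofProd X T V = 𝟙 _ := by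
  rw [← cancel_mono (opnι (X ⊗ T) _), Category.assoc, ofProd_opnι, toProd_whiskerLeft, Category.id_comp]

theorem opnMap_toProd (X : Over S) (T : Over S) {V W : T.left.Opens} (h : V ≤ W)
    (h' : (snd X T).left ⁻¹ᵁ V ≤ (snd X T).left ⁻¹ᵁ W) :
    opnMap (X ⊗ T) h' ≫ toProd X T W = toProd X T V ≫ (X ◁ opnMap T h) := by
  haveI := mono_whiskerLeft X (opnι T W)
  rw [← cancel_mono (X ◁ opnι T W), Category.assoc, toProd_whiskerLeft, opnMap_opnι, Category.assoc,
    ← MonoidalCategory.whiskerLeft_comp, opnMap_opnι, toProd_whiskerLeft]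

theorem isSheaf_homPsh (X Y : Over S) : IsSheaf (homPsh X Y) := by
  intro T κ V hV (x : ∀ i, X ⊗ opn T (V i) ⟶ Y)
    (hx : ∀ i j, (X ◁ opnMap T (inf_le_left (a := V i) (b := V j))) ≫ x i = (X ◁ opnMap T inf_le_right) ≫ x j)
  change ∃! y : X ⊗ T ⟶ Y, ∀ i, (X ◁ opnι T (V i)) ≫ y = x i
  have hW : TopologicalSpace.IsOpenCover fun i => (snd X T).left ⁻¹ᵁ V i :=
    TopologicalSpace.IsOpenCover.mk (eq_top_iff.mpr fun z _ => by
      obtain ⟨i, hi⟩ := hV.exists_mem ((snd X T).left z)
      exact TopologicalSpace.Opens.mem_iSup.mpr ⟨i, hi⟩)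
  obtain ⟨y, hy⟩ := exists_glue_opens (Z := Y) _ hW (fun i => toProd X T (V i) ≫ x i) fun i j => by
    rw [← Category.assoc, ← Category.assoc]
    erw [opnMap_toProd X T (V := V i ⊓ V j) (W := V i) inf_le_left,
      opnMap_toProd X T (V := V i ⊓ V j) (W := V j) inf_le_right]
    rw [Category.assoc, Category.assoc, hx]
  refine ⟨y, fun i => ?_, fun z hz => hom_ext_opens _ hW fun i => ?_⟩
  · rw [← ofProd_opnι, Category.assoc, hy, ← Category.assoc, ofProd_toProd, Category.id_comp]
  · rw [hy, ← hz i, ← Category.assoc, toProd_whiskerLeft]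

end GrothLib.HomScheme
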