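import Mathlib.AlgebraicGeometry.Morphisms.Finite
import Mathlib.AlgebraicGeometry.Morphisms.Flat
import Mathlib.AlgebraicGeometry.Morphisms.FinitePresentation
import Mathlib.AlgebraicGeometry.Pullbacks
import Mathlib.RingTheory.Flat.EquationalCriterion
import Mathlib.RingTheory.Finiteness.ModuleFinitePresentation
import Groth.Agent.Lib.HomScheme.Sheaf
import Groth.Agent.Lib.WeilAffine.Algebra

/-!
`Hom_S(X, Y)` over an affine open of the base, for `X` finite locally free and `Y` affine.
-/

set_option backward.isDefEq.respectTransparency false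

universe u

open CategoryTheory CategoryTheory.Limits MonoidalCategory CartesianMonoidalCategory AlgebraicGeometry
open scoped TensorProduct

namespace GrothLib.HomScheme

open GrothLib.RepLocal

variable {S : Scheme.{u}} {R : Type u} [CommRing R] (j : Spec (CommRingCat.of R) ⟶ S)

/-- An algebra, as a scheme over `S`. -/
noncomputable abbrev specOver (C : Type u) [CommRing C] [Algebra R C] : Over S :=
  Over.mk (Spec.map (CommRingCat.ofHom (algebraMap R C)) ≫ j)

/-- An algebra map, as a morphism over `S`. -/
noncomputable def specHom {C D : Type u} [CommRing C] [Algebra R C] [CommRing D] [Algebra R D] (g : C →ₐ[R] D) :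
    specOver j D ⟶ specOver j C :=
  Over.homMk (Spec.map (CommRingCat.ofHom g.toRingHom)) (by
    change Spec.map _ ≫ Spec.map _ ≫ j = Spec.map _ ≫ j
    rw [← Category.assoc, ← Spec.map_comp]
    congr 2
    ext x
    exact g.commutes x)

theorem specHom_comp {C D F : Type u} [CommRing C] [Algebra R C] [CommRing D] [Algebra R D] [CommRing F]
    [Algebra R F] (g : C →ₐ[R] D) (h : D →ₐ[R] F) : specHom j h ≫ specHom j g = specHom j (h.comp g) :=
  Over.OverMorphism.ext (Spec.map_comp _ _).symm

theorem specHom_injective {C D : Type u} [CommRing C] [Algebra R C] [CommRing D] [Algebra R D]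
    {g g' : C →ₐ[R] D} (h : specHom j g = specHom j g') : g = g' := by
  have h1 := congrArg CommRingCat.Hom.hom (Spec.map_injective (congrArg (fun t => t.left) h))
  exact AlgHom.ext fun x => RingHom.congr_fun h1 x

theorem specHom_surjective [Mono j] {C D : Type u} [CommRing C] [Algebra R C] [CommRing D] [Algebra R D]
    (a : specOver j D ⟶ specOver j C) : ∃ g : C →ₐ[R] D, specHom j g = a := by
  obtain ⟨φ, hφ⟩ : ∃ φ, Spec.map φ = a.left := ⟨_, Spec.map_preimage a.left⟩
  have h := Over.w a
  change a.left ≫ Spec.map _ ≫ j = Spec.map _ ≫ j at h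
  rw [← Category.assoc, cancel_mono, ← hφ, ← Spec.map_comp] at h
  refine ⟨⟨φ.hom, fun x => ?_⟩, Over.OverMorphism.ext hφ⟩
  exact RingHom.congr_fun (congrArg CommRingCat.Hom.hom (Spec.map_injective h)) x

theorem exists_iso_specOver (T : Over S) [IsAffine T.left] (q : T.left ⟶ Spec (CommRingCat.of R))
    (hq : q ≫ j = T.hom) :
    ∃ (C : Type u) (_ : CommRing C) (_ : Algebra R C), Nonempty (T ≅ specOver j C) := by
  obtain ⟨φ, hφ⟩ : ∃ φ, Spec.map φ = T.left.isoSpec.inv ≫ q := ⟨_, Spec.map_preimage _⟩
  letI := φ.hom.toAlgebra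
  refine ⟨Γ(T.left, ⊤), inferInstance, inferInstance, ⟨Over.isoMk T.left.isoSpec ?_⟩⟩
  change T.left.isoSpec.hom ≫ Spec.map φ ≫ j = T.hom
  rw [hφ, Category.assoc, Iso.hom_inv_id_assoc, hq]

theorem exists_chart (X : Over S) [IsAffineHom X.hom] :
    ∃ (A : Type u) (_ : CommRing A) (_ : Algebra R A) (a : specOver j A ⟶ X),
      IsPullback a.left (Spec.map (CommRingCat.ofHom (algebraMap R A))) X.hom j := by
  let P := pullback X.hom j
  haveI : IsAffineHom (pullback.snd X.hom j) := MorphismProperty.pullback_snd _ _ inferInstance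
  haveI : IsAffine P := isAffine_of_isAffineHom (pullback.snd X.hom j)
  obtain ⟨φ, hφ⟩ : ∃ φ, Spec.map φ = P.isoSpec.inv ≫ pullback.snd X.hom j := ⟨_, Spec.map_preimage _⟩
  letI := φ.hom.toAlgebra
  refine ⟨Γ(P, ⊤), inferInstance, inferInstance, Over.homMk (P.isoSpec.inv ≫ pullback.fst X.hom j) ?_, ?_⟩
  · change (P.isoSpec.inv ≫ pullback.fst X.hom j) ≫ X.hom = Spec.map φ ≫ j
    rw [hφ, Category.assoc, Category.assoc, pullback.condition]
  · change IsPullback (P.isoSpec.inv ≫ pullback.fst X.hom j) (Spec.map φ) X.hom j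
    exact (IsPullback.of_hasPullback X.hom j).of_iso P.isoSpec (Iso.refl _) (Iso.refl _) (Iso.refl _)
      (by rw [Iso.refl_hom, Category.comp_id, Iso.hom_inv_id_assoc])
      (by rw [Iso.refl_hom, Category.comp_id, hφ, Iso.hom_inv_id_assoc]) (by simp) (by simp)

section chart

variable [Mono j] {X : Over S} {A : Type u} [CommRing A] [Algebra R A] (a : specOver j A ⟶ X)

/-- The comparison map of a chart with the product. -/
noncomputable def prodLift (C : Type u) [CommRing C] [Algebra R C] :
    specOver j (A ⊗[R] C) ⟶ X ⊗ specOver j C :=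
  lift (specHom j (Algebra.TensorProduct.includeLeft : A →ₐ[R] A ⊗[R] C) ≫ a)
    (specHom j (Algebra.TensorProduct.includeRight : C →ₐ[R] A ⊗[R] C))

theorem isIso_prodLift (ha : IsPullback a.left (Spec.map (CommRingCat.ofHom (algebraMap R A))) X.hom j)
    (C : Type u) [CommRing C] [Algebra R C] : IsIso (prodLift j a C) := by
  have h1 := (AlgebraicGeometry.isPullback_SpecMap_of_isPushout _ _ _ _
    (CommRingCat.isPushout_tensorProduct R A C)).paste_horiz ha
  have h2 : IsPullback ((specHom j (Algebra.TensorProduct.includeLeft (R := R) (A := A) (B := C))).left ≫ a.left)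
      (specHom j (Algebra.TensorProduct.includeRight (R := R) (A := A) (B := C))).left X.hom
      (specOver j C).hom := h1
  have h3 : (prodLift j a C).left = h2.isoPullback.hom := by
    apply pullback.hom_ext
    · rw [h2.isoPullback_hom_fst]
      exact congrArg (fun t => t.left) (lift_fst (specHom j (Algebra.TensorProduct.includeLeft : A →ₐ[R] A ⊗[R] C) ≫ a) _)
    · rw [h2.isoPullback_hom_snd]
      exact congrArg (fun t => t.left)
        (lift_snd (specHom j (Algebra.TensorProduct.includeLeft (R := R) (A := A) (B := C)) ≫ a) _)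
  haveI : IsIso ((Over.forget S).map (prodLift j a C)) := by
    change IsIso (prodLift j a C).left
    rw [h3]
    infer_instance
  exact isIso_of_reflects_iso _ (Over.forget S)

theorem prodLift_natural {C D : Type u} [CommRing C] [Algebra R C] [CommRing D] [Algebra R D] (g : C →ₐ[R] D) :
    prodLift j a D ≫ (X ◁ specHom j g) =
      specHom j (Algebra.TensorProduct.map (AlgHom.id R A) g) ≫ prodLift j a C := by
  apply CartesianMonoidalCategory.hom_ext
  · simp only [prodLift, Category.assoc, whiskerLeft_fst, lift_fst]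
    rw [← Category.assoc (specHom j _), specHom_comp, Algebra.TensorProduct.map_comp_includeLeft, AlgHom.comp_id]
  · simp only [prodLift, Category.assoc, whiskerLeft_snd, lift_snd, lift_snd_assoc]
    rw [specHom_comp, specHom_comp, Algebra.TensorProduct.map_comp_includeRight]

theorem existsUnique_chart_lift (ha : IsPullback a.left (Spec.map (CommRingCat.ofHom (algebraMap R A))) X.hom j)
    {D : Type u} [CommRing D] [Algebra R D] (ψ : specOver j D ⟶ X) :
    ∃! f : A →ₐ[R] D, specHom j f ≫ a = ψ := by
  let l := ha.lift ψ.left (Spec.map (CommRingCat.ofHom (algebraMap R D))) (Over.w ψ)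
  let l' : specOver j D ⟶ specOver j A := Over.homMk l (by
    change l ≫ Spec.map _ ≫ j = Spec.map _ ≫ j
    rw [ha.lift_snd_assoc])
  obtain ⟨f, hf⟩ := specHom_surjective j l'
  have h : specHom j f ≫ a = ψ := by rw [hf]; exact Over.OverMorphism.ext (ha.lift_fst _ _ _)
  refine ⟨f, h, fun f' hf' => specHom_injective j (Over.OverMorphism.ext (ha.hom_ext ?_ ?_))⟩
  · exact congrArg (fun t => t.left) (hf'.trans h.symm)
  · rw [← cancel_mono j, Category.assoc, Category.assoc]
    exact (Over.w (specHom j f')).trans (Over.w (specHom j f)).symm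

end chart

/-- The Weil restriction represents the families of morphisms on affine schemes over the chart. -/
theorem exists_affine_rep [Mono j] (X Y : Over S) [IsFinite X.hom] [Flat X.hom] [LocallyOfFinitePresentation X.hom]
    [IsAffineHom Y.hom] :
    ∃ (W : Type u) (_ : CommRing W) (_ : Algebra R W) (n : X ⊗ specOver j W ⟶ Y),
      (∀ (C : Type u) [CommRing C] [Algebra R C] (φ : X ⊗ specOver j C ⟶ Y),
        ∃! v : specOver j C ⟶ specOver j W, (X ◁ v) ≫ n = φ) ∧
      (LocallyOfFiniteType Y.hom → Algebra.FiniteType R W) ∧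
      (LocallyOfFinitePresentation Y.hom → Algebra.FinitePresentation R W) := by
  obtain ⟨A, _, _, a, ha⟩ := exists_chart j X
  obtain ⟨B, _, _, b, hb⟩ := exists_chart j Y
  haveI : Module.Finite R A := RingHom.finite_algebraMap.mp
    ((IsFinite.SpecMap_iff _).mp (MorphismProperty.of_isPullback (P := @IsFinite) ha inferInstance))
  haveI : Module.Flat R A := RingHom.flat_algebraMap_iff.mp
    (Flat.SpecMap_iff.mp (MorphismProperty.of_isPullback (P := @Flat) ha inferInstance))
  haveI : Algebra.FinitePresentation R A := RingHom.finitePresentation_algebraMap.mp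
    ((HasRingHomProperty.Spec_iff (P := @LocallyOfFinitePresentation)).mp
      (MorphismProperty.of_isPullback (P := @LocallyOfFinitePresentation) ha inferInstance))
  haveI : Module.FinitePresentation R A := Module.FinitePresentation.of_finite_of_finitePresentation R A
  haveI : Module.Projective R A := Module.Flat.projective_of_finitePresentation
  obtain ⟨W, _, _, θ, hθ, hFT, hFP⟩ := WeilAffine.exists_weil R A B
  haveI := isIso_prodLift j a ha W
  refine ⟨W, inferInstance, inferInstance, inv (prodLift j a W) ≫ specHom j θ ≫ b, fun C _ _ φ => ?_,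
    fun h => hFT ?_, fun h => hFP ?_⟩
  · haveI := isIso_prodLift j a ha C
    obtain ⟨f, hf, hfu⟩ := existsUnique_chart_lift j b hb (prodLift j a C ≫ φ)
    obtain ⟨g, hg, hgu⟩ := hθ C f
    have key : ∀ g' : W →ₐ[R] C, prodLift j a C ≫ (X ◁ specHom j g') ≫ inv (prodLift j a W) ≫ specHom j θ ≫ b =
        specHom j ((Algebra.TensorProduct.map (AlgHom.id R A) g').comp θ) ≫ b := fun g' => by
      rw [← Category.assoc, prodLift_natural, Category.assoc, IsIso.hom_inv_id_assoc, ← Category.assoc,
        specHom_comp]
    refine ⟨specHom j g, ?_, fun v hv => ?_⟩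
    · change (X ◁ specHom j g) ≫ _ = φ
      rw [← cancel_epi (prodLift j a C), key, hg, hf]
    · obtain ⟨g', rfl⟩ := specHom_surjective j v
      exact congrArg (specHom j) (hgu g' (hfu _ (show _ = _ by rw [← key g', hv])))
  · exact RingHom.finiteType_algebraMap.mp ((HasRingHomProperty.Spec_iff (P := @LocallyOfFiniteType)).mp
      (MorphismProperty.of_isPullback (P := @LocallyOfFiniteType) hb h))
  · exact RingHom.finitePresentation_algebraMap.mp
      ((HasRingHomProperty.Spec_iff (P := @LocallyOfFinitePresentation)).mp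
        (MorphismProperty.of_isPullback (P := @LocallyOfFinitePresentation) hb h))

end GrothLib.HomScheme
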