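import Groth.Agent.Lib.HomScheme.FamPsh
import Groth.Agent.Lib.HomScheme.Const
import Groth.Agent.Lib.DiagGrp.Points
import Groth.Agent.Lib.RepLocal.Sigma
import Groth.Agent.Lib.DiagGrp.ChartCover

/-!
Charts over which a group is constant, and families glued along them.
-/

set_option backward.isDefEq.respectTransparency false

universe u

open CategoryTheory CategoryTheory.Limits MonoidalCategory CartesianMonoidalCategory MonObj GrpObj AlgebraicGeometry
open GrothLib.DiagGrp GrothLib.RepLocal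

namespace GrothLib.HomScheme

variable {S : Scheme.{u}} (R : Over S) [GrpObj R]

/-- A chart over which the group is constant: it is covered by sections indexed by an abstract group. -/
structure ConstChart {W : Scheme.{u}} (f : W ⟶ S) (M : Type) [Group M] where
  sec : M → (Over.mk f ⟶ R)
  sec_mul : ∀ m n, sec (m * n) = sec m * sec n
  cover : ∀ (X : Over S) (a : X ⟶ R) (t : X ⟶ Over.mk f), ∃ V : M → X.left.Opens,
    TopologicalSpace.IsOpenCover V ∧ ∀ m, opnι X (V m) ≫ a = opnι X (V m) ≫ t ≫ sec m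
  index_unique : ∀ (X : Over S) (t : X ⟶ Over.mk f) (m n : M), t ≫ sec m = t ≫ sec n → X.left → m = n

/-- The group is constant over `f`. -/
def ConstData {W : Scheme.{u}} (f : W ⟶ S) : Prop :=
  ∃ (M : Type) (_ : Group M), Nonempty (ConstChart R f M)

variable {R}

theorem ConstData.precomp {W W' : Scheme.{u}} {f : W ⟶ S} (h : ConstData R f) (g : W' ⟶ W) (f' : W' ⟶ S)
    (hf' : f' = g ≫ f) : ConstData R f' := by
  obtain ⟨M, inst, ⟨C⟩⟩ := h
  let g' : Over.mk f' ⟶ Over.mk f := Over.homMk g hf'.symm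
  refine ⟨M, inst, ⟨⟨fun m => g' ≫ C.sec m, fun m n => ?_, fun X a t => ?_, fun X t m n h z => ?_⟩⟩⟩
  · simp only [C.sec_mul, MonObj.comp_mul]
  · obtain ⟨V, h1, h3⟩ := C.cover X a (t ≫ g')
    exact ⟨V, h1, fun m => by rw [h3 m, Category.assoc]⟩
  · exact C.index_unique X (t ≫ g') m n (by rw [Category.assoc, Category.assoc, h]) z

section ofIso

variable {W : Scheme.{u}} (f : W ⟶ S)

/-- A scheme over a member of a covering, seen over it. -/
noncomputable abbrev overOf {X : Over S} (t : X ⟶ Over.mk f) : Over W := Over.mk t.left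

/-- A scheme over a member of a covering, seen over it and pushed back. -/
noncomputable def overOfIso {X : Over S} (t : X ⟶ Over.mk f) : (Over.map f).obj (overOf f t) ≅ X :=
  Over.isoMk (Iso.refl _) (by
    change 𝟙 _ ≫ X.hom = t.left ≫ f
    rw [Category.id_comp]
    exact (Over.w t).symm)

/-- The canonical map from a member of a covering to its image. -/
noncomputable def overUnit : Over.mk f ⟶ (Over.map f).obj (𝟙_ (Over W)) :=
  Over.homMk (𝟙 W) (by
    change 𝟙 W ≫ 𝟙 W ≫ f = f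
    simp)

theorem overOfIso_hom_unit {X : Over S} (t : X ⟶ Over.mk f) :
    (overOfIso f t).hom ≫ t ≫ overUnit f = (Over.map f).map (toUnit (overOf f t)) :=
  Over.OverMorphism.ext (by
    change 𝟙 _ ≫ t.left ≫ 𝟙 W = (toUnit (overOf f t)).left
    exact ((Category.id_comp _).trans (Category.comp_id t.left)).trans
      ((Category.comp_id _).symm.trans (Over.w (toUnit (overOf f t)))).symm)

theorem bcPoint_overOf {X : Over S} (t : X ⟶ Over.mk f) (p : 𝟙_ (Over W) ⟶ Red.bc f R) :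
    bcPoint f R (overOf f t) ((overOfIso f t).hom ≫ t ≫ overUnit f ≫ (bcPointMulEquiv f R _).symm p) =
      toUnit _ ≫ p := by
  rw [reassoc_of% overOfIso_hom_unit f t, bcPoint_comp]
  exact congrArg _ ((bcPointMulEquiv f R _).apply_symm_apply p)

theorem constData_of_iso {M : Type} [Group M] (e : Red.bc f R ≅ TwC.const W M)
    (he : TwC.IsConstGrp M (Red.bc f R) e) : ConstData R f := by
  let s : M → (Over.mk f ⟶ R) := fun m => overUnit f ≫ (bcPointMulEquiv f R _).symm (TwC.pt W M m ≫ e.inv)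
  refine ⟨M, inferInstance, ⟨⟨s, fun m n => ?_, fun X a t => ?_, fun X t m n h z => ?_⟩⟩⟩
  · simp only [s, ← MonObj.comp_mul, ← map_mul, he m n]
  · let z : overOf f t ⟶ TwC.const W M := bcPoint f R _ ((overOfIso f t).hom ≫ a) ≫ e.hom
    let V : M → X.left.Opens := fun m => z.left ⁻¹ᵁ (Sigma.ι (fun _ : M => W) m).opensRange
    refine ⟨V, TopologicalSpace.IsOpenCover.mk (eq_top_iff.mpr fun x _ => ?_), fun m => ?_⟩
    · obtain ⟨i, y, hy⟩ := (sigmaOpenCover (fun _ : M => W)).exists_eq (z.left x)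
      exact TopologicalSpace.Opens.mem_iSup.mpr ⟨i, y, hy⟩
    · let l : overOf f (opnι X (V m) ≫ t) ⟶ overOf f t := Over.homMk (V m).ι rfl
      have hl : (Over.map f).map l ≫ (overOfIso f t).hom = (overOfIso f (opnι X (V m) ≫ t)).hom ≫ opnι X (V m) :=
        Over.OverMorphism.ext (by
          change (V m).ι ≫ 𝟙 _ = 𝟙 _ ≫ (V m).ι
          simp)
      have h2 : l ≫ z = toUnit _ ≫ TwC.pt W M m := by
        apply Over.OverMorphism.ext
        change (V m).ι ≫ z.left = (toUnit (overOf f (opnι X (V m) ≫ t))).left ≫ Sigma.ι (fun _ : M => W) m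
        rw [eq_of_mem_piece W M ((V m).ι ≫ z.left) m fun x => x.2]
        congr 1
        rw [Category.assoc, Over.w z]
        exact ((Category.comp_id _).symm.trans (Over.w (toUnit (overOf f (opnι X (V m) ≫ t))))).symm
      rw [← cancel_epi (overOfIso f (opnι X (V m) ≫ t)).hom]
      apply (bcPoint f R _).injective
      have h3 := bcPoint_overOf f (opnι X (V m) ≫ t) (TwC.pt W M m ≫ e.inv)
      simp only [Category.assoc] at h3
      rw [h3, ← Category.assoc (toUnit _), ← h2, ← reassoc_of% hl, bcPoint_comp]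
      simp [z]
  · have h3 := bcPoint_overOf f t (TwC.pt W M m ≫ e.inv)
    have h4 := bcPoint_overOf f t (TwC.pt W M n ≫ e.inv)
    simp only [s] at h
    rw [h, h4, ← Category.assoc, ← Category.assoc, cancel_mono] at h3
    have h5 : ((toUnit (overOf f t)).left ≫ Sigma.ι (fun _ : M => W) n) z =
        ((toUnit (overOf f t)).left ≫ Sigma.ι (fun _ : M => W) m) z := congrArg (fun b => b.left z) h3
    by_contra hne
    refine (disjoint_opensRange_sigmaι (fun _ : M => W) m n hne).le_bot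
      (x := Sigma.ι (fun _ : M => W) m ((toUnit (overOf f t)).left z)) ⟨⟨_, rfl⟩, ⟨(toUnit (overOf f t)).left z, h5⟩⟩

variable (R) in
theorem coverBy_constData {S' : Scheme.{u}} (π : S' ⟶ S) [Flat π]
    (hqc : ∀ V : S.Opens, IsAffineOpen V → ∃ W : S'.Opens, IsCompact (W : Set S') ∧ π.base '' (W : Set S') = (V : Set S))
    (hloc : ∀ s' : S', ∃ U : S'.Opens, s' ∈ U ∧ ConstData R (U.ι ≫ π)) (V : S.Opens) (hV : IsAffineOpen V) :
    CoverBy (fun _ f => ConstData R f) V := by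
  obtain ⟨W, hWc, hWim⟩ := hqc V hV
  have hr : Set.range (W.ι ≫ π).base ⊆ Set.range V.ι.base := by
    rintro _ ⟨z, rfl⟩
    rw [V.range_ι, ← hWim]
    exact ⟨W.ι.base z, by rw [← W.range_ι]; exact ⟨z, rfl⟩, rfl⟩
  set q : (W : Scheme.{u}) ⟶ (V : Scheme.{u}) := IsOpenImmersion.lift V.ι (W.ι ≫ π) hr
  have hq : q ≫ V.ι = W.ι ≫ π := IsOpenImmersion.lift_fac _ _ _
  haveI : IsAffine (V : Scheme.{u}) := hV
  haveI : Flat q := by
    have : Flat (q ≫ V.ι) := by rw [hq]; infer_instance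
    exact MorphismProperty.of_postcomp @Flat (W' := @IsOpenImmersion) q V.ι inferInstance this
  haveI : CompactSpace (W : Scheme.{u}) := isCompact_iff_compactSpace.mp hWc
  haveI : QuasiCompact q := (quasiCompact_iff_compactSpace q).mpr inferInstance
  refine ⟨_, q, inferInstance, ⟨fun v => ?_⟩, inferInstance, fun w => ?_⟩
  · have hv : V.ι.base v ∈ π.base '' (W : Set S') := by
      rw [hWim, ← V.range_ι]; exact ⟨v, rfl⟩
    obtain ⟨w, hw, hwv⟩ := hv
    refine ⟨⟨w, hw⟩, V.ι.injective ?_⟩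
    rw [← Scheme.Hom.comp_apply, hq, Scheme.Hom.comp_apply]
    exact hwv
  · obtain ⟨U, hwU, hch⟩ := hloc (W.ι.base w)
    obtain ⟨R', hR, hwR, hRU⟩ := exists_isAffineOpen_mem_and_subset (show w ∈ W.ι ⁻¹ᵁ U from hwU)
    refine ⟨R', hwR, hR, ?_⟩
    have hr' : Set.range (R'.ι ≫ W.ι).base ⊆ Set.range U.ι.base := by
      rintro _ ⟨z, rfl⟩
      rw [U.range_ι]
      exact hRU (show R'.ι.base z ∈ (R' : Set (W : Scheme.{u})) by rw [← R'.range_ι]; exact ⟨z, rfl⟩)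
    refine hch.precomp (IsOpenImmersion.lift U.ι (R'.ι ≫ W.ι) hr') _ ?_
    rw [hq, ← Category.assoc (IsOpenImmersion.lift U.ι (R'.ι ≫ W.ι) hr'), IsOpenImmersion.lift_fac, Category.assoc]

end ofIso

section glue

variable {W : Scheme.{u}} {f : W ⟶ S} {M : Type} [Group M]

theorem isOpenCover_ulift {X : Scheme.{u}} {V : M → X.Opens} (hV : TopologicalSpace.IsOpenCover V) :
    TopologicalSpace.IsOpenCover fun i : ULift.{u} M => V i.down :=
  TopologicalSpace.IsOpenCover.mk (eq_top_iff.mpr fun x _ => by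
    obtain ⟨m, hm⟩ := hV.exists_mem x
    exact TopologicalSpace.Opens.mem_iSup.mpr ⟨⟨m⟩, hm⟩)

/-- On a product with the group, morphisms may be given piece by piece. -/
theorem ConstChart.exists_glue (C : ConstChart R f M) {N G : Over S} (q : N ⟶ Over.mk f) (w : M → (N ⟶ G)) :
    ∃ υ : R ⊗ N ⟶ G, ∀ (X : Over S) (r : X ⟶ R) (t : X ⟶ N) (m : M), r = (t ≫ q) ≫ C.sec m →
      lift r t ≫ υ = t ≫ w m := by
  obtain ⟨V₀, hV₀, hV₀e⟩ := C.cover (R ⊗ N) (fst R N) (snd R N ≫ q)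
  have hd : ∀ m m' z, z ∈ V₀ m → z ∈ V₀ m' → m = m' := fun m m' z h h' => by
    refine C.index_unique (opn (R ⊗ N) (V₀ m ⊓ V₀ m')) (opnι _ _ ≫ snd R N ≫ q) m m' ?_ ⟨z, h, h'⟩
    simp only [Category.assoc]
    have e₁ : opnι (R ⊗ N) (V₀ m ⊓ V₀ m') ≫ fst R N = opnι (R ⊗ N) (V₀ m ⊓ V₀ m') ≫ snd R N ≫ q ≫ C.sec m := by
      rw [← opnMap_opnι (R ⊗ N) (inf_le_left : V₀ m ⊓ V₀ m' ≤ V₀ m), Category.assoc, hV₀e m]
      simp
    have e₂ : opnι (R ⊗ N) (V₀ m ⊓ V₀ m') ≫ fst R N = opnι (R ⊗ N) (V₀ m ⊓ V₀ m') ≫ snd R N ≫ q ≫ C.sec m' := by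
      rw [← opnMap_opnι (R ⊗ N) (inf_le_right : V₀ m ⊓ V₀ m' ≤ V₀ m'), Category.assoc, hV₀e m']
      simp
    exact e₁.symm.trans e₂
  obtain ⟨υ, hυ⟩ := exists_glue_opens (Z := G) _ (isOpenCover_ulift hV₀)
    (fun i => opnι _ _ ≫ snd R N ≫ w i.down) fun i i' => by
      by_cases h : i = i'
      · subst h; rfl
      · haveI : IsEmpty (opn (R ⊗ N) (V₀ i.down ⊓ V₀ i'.down)).left :=
          ⟨fun z => h (ULift.ext _ _ (hd _ _ _ z.2.1 z.2.2))⟩
        exact Over.OverMorphism.ext (isInitialOfIsEmpty.hom_ext _ _)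
  refine ⟨υ, fun X r t m hr => ?_⟩
  refine hom_ext_opens (fun i : ULift.{u} M => (lift r t).left ⁻¹ᵁ V₀ i.down)
    (TopologicalSpace.IsOpenCover.mk (eq_top_iff.mpr fun x _ => by
      obtain ⟨n, hn⟩ := hV₀.exists_mem ((lift r t).left x)
      exact TopologicalSpace.Opens.mem_iSup.mpr ⟨⟨n⟩, hn⟩)) fun i => ?_
  let V := (lift r t).left ⁻¹ᵁ V₀ i.down
  let g' : opn X V ⟶ opn (R ⊗ N) (V₀ i.down) := Over.homMk ((lift r t).left ∣_ V₀ i.down) (by
    change (lift r t).left ∣_ V₀ i.down ≫ (V₀ i.down).ι ≫ (R ⊗ N).hom = V.ι ≫ X.hom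
    rw [morphismRestrict_ι_assoc, Over.w (lift r t)])
  have hg' : g' ≫ opnι _ _ = opnι X V ≫ lift r t := Over.OverMorphism.ext (morphismRestrict_ι _ _)
  by_cases hi : i.down = m
  · subst hi
    rw [← reassoc_of% hg', hυ, reassoc_of% hg', lift_snd_assoc]
  · haveI : IsEmpty (opn X V).left := ⟨fun z => hi (C.index_unique _ (opnι X V ≫ t ≫ q) i.down m (by
      have := congrArg (g' ≫ ·) (hV₀e i.down)
      simp only [reassoc_of% hg', lift_snd_assoc, lift_fst, hr, Category.assoc] at this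
      simp only [Category.assoc]
      exact this.symm) z)⟩
    exact Over.OverMorphism.ext (isInitialOfIsEmpty.hom_ext _ _)

variable {N G : Over S} {q : N ⟶ Over.mk f} {w : M → (N ⟶ G)} {υ : R ⊗ N ⟶ G}

theorem ConstChart.pieces (C : ConstChart R f M)
    (hυ : ∀ (X : Over S) (r : X ⟶ R) (t : X ⟶ N) (m : M), r = (t ≫ q) ≫ C.sec m → lift r t ≫ υ = t ≫ w m)
    {X : Over S} (r : X ⟶ R) (t : X ⟶ N) :
    ∃ V : M → X.left.Opens, TopologicalSpace.IsOpenCover V ∧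
      ∀ m, opnι X (V m) ≫ r = opnι X (V m) ≫ (t ≫ q) ≫ C.sec m ∧
        ∀ t' : X ⟶ N, t' ≫ q = t ≫ q → opnι X (V m) ≫ lift r t' ≫ υ = opnι X (V m) ≫ t' ≫ w m := by
  obtain ⟨V, hV, hVe⟩ := C.cover X r (t ≫ q)
  refine ⟨V, hV, fun m => ⟨hVe m, fun t' ht' => ?_⟩⟩
  rw [comp_lift_assoc, hυ _ _ (opnι X (V m) ≫ t') m (by rw [hVe m, ← ht']; simp only [Category.assoc]), Category.assoc]

theorem ConstChart.isHomFamily [GrpObj G] (C : ConstChart R f M)
    (hυ : ∀ (X : Over S) (r : X ⟶ R) (t : X ⟶ N) (m : M), r = (t ≫ q) ≫ C.sec m → lift r t ≫ υ = t ≫ w m)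
    (hw : ∀ m n, w (m * n) = w m * w n) : AutFam.IsHomFamily R G υ := by
  intro X g₁ g₂ t
  obtain ⟨V₁, hV₁, h₁⟩ := C.pieces hυ g₁ t
  obtain ⟨V₂, hV₂, h₂⟩ := C.pieces hυ g₂ t
  refine hom_ext_opens (fun i : ULift.{u} (M × M) => V₁ i.down.1 ⊓ V₂ i.down.2)
    (TopologicalSpace.IsOpenCover.mk (eq_top_iff.mpr fun x _ => by
      obtain ⟨m, hm⟩ := hV₁.exists_mem x
      obtain ⟨n, hn⟩ := hV₂.exists_mem x
      exact TopologicalSpace.Opens.mem_iSup.mpr ⟨⟨(m, n)⟩, hm, hn⟩)) fun i => ?_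
  obtain ⟨⟨m, n⟩⟩ := i
  let o := opnι X (V₁ m ⊓ V₂ n)
  have e₁ : ∀ {Z : Over S} {a b : X ⟶ Z}, opnι X (V₁ m) ≫ a = opnι X (V₁ m) ≫ b → o ≫ a = o ≫ b :=
    fun {Z a b} h => by simp only [o, ← opnMap_opnι X (inf_le_left : V₁ m ⊓ V₂ n ≤ V₁ m), Category.assoc, h]
  have e₂ : ∀ {Z : Over S} {a b : X ⟶ Z}, opnι X (V₂ n) ≫ a = opnι X (V₂ n) ≫ b → o ≫ a = o ≫ b :=
    fun {Z a b} h => by simp only [o, ← opnMap_opnι X (inf_le_right : V₁ m ⊓ V₂ n ≤ V₂ n), Category.assoc, h]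
  change o ≫ _ = o ≫ _
  rw [comp_lift_assoc, hυ _ _ (o ≫ t) (m * n) (by
    rw [MonObj.comp_mul, e₁ (h₁ m).1, e₂ (h₂ n).1, C.sec_mul]
    simp only [Category.assoc, MonObj.comp_mul]), MonObj.comp_mul, e₁ ((h₁ m).2 t rfl), e₂ ((h₂ n).2 t rfl), hw]
  simp only [Category.assoc, MonObj.comp_mul]

/-- The family classifies as soon as its values on the sections do, on affine schemes. -/
theorem ConstChart.repOver [GrpObj G] (C : ConstChart R f M)
    (hυ : ∀ (X : Over S) (r : X ⟶ R) (t : X ⟶ N) (m : M), r = (t ≫ q) ≫ C.sec m → lift r t ≫ υ = t ≫ w m)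
    (hfam : AutFam.IsHomFamily R G υ)
    (huniv : ∀ T : Over S, IsAffine T.left → ∀ (t : T ⟶ Over.mk f) (c : M → (T ⟶ G)),
      (∀ m n, c (m * n) = c m * c n) → ∃! a : T ⟶ N, a ≫ q = t ∧ ∀ m, a ≫ w m = c m) :
    RepOver (famPsh R G) q ⟨υ, hfam⟩ := by
  have haff : ∀ (T : Over S) (V : T.left.affineOpens), IsAffine (opn T V.1).left := fun T V => V.2
  have hcov : ∀ T : Over S, TopologicalSpace.IsOpenCover (fun V : T.left.affineOpens => V.1) := fun T =>
    TopologicalSpace.IsOpenCover.mk (iSup_affineOpens_eq_top T.left)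
  have key : ∀ (T : Over S) (a : T ⟶ N) (t : T ⟶ Over.mk f) (x : R ⊗ T ⟶ G), a ≫ q = t →
      ((R ◁ a) ≫ υ = x ↔ ∀ m, a ≫ w m = lift (t ≫ C.sec m) (𝟙 T) ≫ x) := by
    intro T a t x haq
    refine ⟨fun h m => ?_, fun h => ?_⟩
    · rw [← h, lift_whiskerLeft_assoc, Category.id_comp, hυ T _ a m (by rw [haq])]
    · obtain ⟨V, hV, hVe⟩ := C.pieces hυ (fst R T) (snd R T ≫ a)
      refine hom_ext_opens _ (isOpenCover_ulift hV) fun i => ?_
      have e0 : R ◁ a = lift (fst R T) (snd R T ≫ a) := by ext <;> simp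
      have e1 : opnι _ (V i.down) ≫ x =
          lift (opnι _ (V i.down) ≫ fst R T) (opnι _ (V i.down) ≫ snd R T) ≫ x := by
        rw [← comp_lift, lift_fst_snd, Category.comp_id]
      rw [e0, (hVe i.down).2 _ rfl, e1, (hVe i.down).1]
      simp only [Category.assoc, reassoc_of% haq]
      rw [h i.down]
      simp only [comp_lift_assoc, Category.comp_id]
  have h : ∀ T : Over S, IsAffine T.left → ∀ (t : T ⟶ Over.mk f) (x : (famPsh R G).obj T),
      ∃! a : T ⟶ N, a ≫ q = t ∧ (famPsh R G).map a ⟨υ, hfam⟩ = x := by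
    intro T hT t x
    obtain ⟨a, ⟨ha₁, ha₂⟩, hau⟩ := huniv T hT t (fun m => lift (t ≫ C.sec m) (𝟙 T) ≫ x.1) fun m n => by
      simp only [C.sec_mul, MonObj.comp_mul]
      exact x.2 T _ _ (𝟙 T)
    exact ⟨a, ⟨ha₁, Subtype.ext ((key T a t x.1 ha₁).mpr ha₂)⟩,
      fun b ⟨hb₁, hb₂⟩ => hau b ⟨hb₁, (key T b t x.1 hb₁).mp (congrArg Subtype.val hb₂)⟩⟩
  have hP := isSheaf_famPsh R G
  have huniq : ∀ (T : Over S) (a b : T ⟶ N), a ≫ q = b ≫ q →
      (famPsh R G).map a ⟨υ, hfam⟩ = (famPsh R G).map b ⟨υ, hfam⟩ → a = b := fun T a b h1 h2 =>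
    hom_ext_opens _ (hcov T) fun W =>
      (h _ (haff T W) (opnι T W.1 ≫ a ≫ q) ((famPsh R G).map (opnι T W.1) ((famPsh R G).map a ⟨υ, hfam⟩))).unique
        ⟨Category.assoc _ _ _, Psh.map_comp _ _ _ _⟩
        ⟨by rw [Category.assoc, h1], by rw [Psh.map_comp, h2]⟩
  intro T t x
  choose a ha _ using fun W : T.left.affineOpens => h _ (haff T W) (opnι T W.1 ≫ t) ((famPsh R G).map (opnι T W.1) x)
  obtain ⟨b, hb⟩ := exists_glue_opens _ (hcov T) a fun W W' => by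
    refine huniq _ _ _ ?_ ?_
    · rw [Category.assoc, Category.assoc, (ha W).1, (ha W').1, ← Category.assoc, ← Category.assoc, opnMap_opnι,
        opnMap_opnι]
    · rw [Psh.map_comp, Psh.map_comp, (ha W).2, (ha W').2, ← Psh.map_comp, ← Psh.map_comp, opnMap_opnι, opnMap_opnι]
  have hbq : b ≫ q = t := hom_ext_opens _ (hcov T) fun W => by rw [← Category.assoc, hb, (ha W).1]
  have hbx : (famPsh R G).map b ⟨υ, hfam⟩ = x := hP.ext _ (hcov T) fun W => by
    rw [← Psh.map_comp, hb, (ha W).2]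
  exact ⟨b, ⟨hbq, hbx⟩, fun c ⟨hc₁, hc₂⟩ => huniq T c b (hc₁.trans hbq.symm) (hc₂.trans hbx.symm)⟩

theorem ConstChart.mul_right [GrpObj G] (C : ConstChart R f M)
    (hυ : ∀ (X : Over S) (r : X ⟶ R) (t : X ⟶ N) (m : M), r = (t ≫ q) ≫ C.sec m → lift r t ≫ υ = t ≫ w m)
    {X : Over S} (r : X ⟶ R) {a b c : X ⟶ N} (ha : a ≫ q = c ≫ q) (hb : b ≫ q = c ≫ q)
    (hc : ∀ m, c ≫ w m = (a ≫ w m) * (b ≫ w m)) :
    lift r c ≫ υ = (lift r a ≫ υ) * (lift r b ≫ υ) := by
  obtain ⟨V, hV, hVe⟩ := C.pieces hυ r c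
  refine hom_ext_opens _ (isOpenCover_ulift hV) fun i => ?_
  rw [MonObj.comp_mul, (hVe i.down).2 c rfl, (hVe i.down).2 a ha, (hVe i.down).2 b hb, hc, MonObj.comp_mul]

end glue

end GrothLib.HomScheme
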