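import Groth.Agent.Lib.AlgSp.Rep
import Groth.Agent.Lib.HomScheme.Family

/-!
The fppf sheaf of families of homomorphisms between two group schemes.
-/

set_option backward.isDefEq.respectTransparency false

universe u

open CategoryTheory MonoidalCategory CartesianMonoidalCategory MonObj GrpObj AlgebraicGeometry
open Opposite

namespace GrothLib.HomScheme

open _root_.AlgSp

variable {S : Scheme.{u}} (H G : Over S) [GrpObj H] [GrpObj G]

theorem isHomFamily_whiskerLeft {H G : Over S} [GrpObj H] [GrpObj G] {T T' : Over S} {φ : H ⊗ T ⟶ G}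
    (hφ : AutFam.IsHomFamily H G φ) (f : T' ⟶ T) : AutFam.IsHomFamily H G ((H ◁ f) ≫ φ) := fun X g₁ g₂ t => by
  simp only [lift_whiskerLeft_assoc]
  exact hφ X g₁ g₂ (t ≫ f)

/-- Families of homomorphisms, as a presheaf. -/
noncomputable def homFamPre : (Over S)ᵒᵖ ⥤ Type (u + 1) where
  obj T := ULift.{u + 1} {φ : H ⊗ T.unop ⟶ G // AutFam.IsHomFamily H G φ}
  map f := ↾fun φ => ⟨⟨(H ◁ f.unop) ≫ φ.down.1, isHomFamily_whiskerLeft φ.down.2 f.unop⟩⟩
  map_id T := by
    ext φ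
    simp
  map_comp f g := by
    ext φ
    simp

theorem isSheaf_homFamPre : Presieve.IsSheaf (J S) (homFamPre H G) := by
  intro T R hR x hx
  have hG : Presieve.IsSheaf (J S) (yoneda.obj G) := GrothendieckTopology.Subcanonical.isSheaf_of_isRepresentable _
  let R' : Sieve (H ⊗ T) := R.pullback (snd H T)
  have hR' : R' ∈ J S (H ⊗ T) := (J S).pullback_stable (snd H T) hR
  have hx' := Presieve.compatible_iff_sieveCompatible x |>.mp hx
  have hres : ∀ {Y Z : Over S} (f : Y ⟶ T) (hf : R f) (h : Z ⟶ Y),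
      (x (h ≫ f) (R.downward_closed hf h)).down.1 = (H ◁ h) ≫ (x f hf).down.1 := fun f hf h => by
    rw [hx' f h hf]
    rfl
  have xc : ∀ {Y : Over S} {f f' : Y ⟶ T} (_ : f = f') (hf : R f) (hf' : R f'),
      (x f hf).down.1 = (x f' hf').down.1 := by
    rintro Y f f' rfl hf hf'
    rfl
  let x' : Presieve.FamilyOfElements (yoneda.obj G) R'.arrows := fun Z g hg =>
    lift (g ≫ fst H T) (𝟙 Z) ≫ (x (g ≫ snd H T) hg).down.1
  have hx2 : x'.Compatible := by
    rw [Presieve.compatible_iff_sieveCompatible]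
    intro Y Z g h hg
    change lift ((h ≫ g) ≫ fst H T) (𝟙 Z) ≫ (x ((h ≫ g) ≫ snd H T) _).down.1 =
      h ≫ lift (g ≫ fst H T) (𝟙 Y) ≫ (x (g ≫ snd H T) hg).down.1
    have e1 : (x ((h ≫ g) ≫ snd H T) (R'.downward_closed hg h)).down.1 =
        (H ◁ h) ≫ (x (g ≫ snd H T) hg).down.1 := by
      exact (xc (Category.assoc _ _ _) _ (R.downward_closed hg h)).trans (hres (g ≫ snd H T) hg h)
    rw [e1, lift_whiskerLeft_assoc, comp_lift_assoc]
    simp
  obtain ⟨y, hy, hyu⟩ := hG R' hR' x' hx2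
  have hamal : ∀ {Y : Over S} (f : Y ⟶ T) (hf : R f), (H ◁ f) ≫ y = (x f hf).down.1 := by
    intro Y f hf
    have hm : R' (H ◁ f) := by
      change R ((H ◁ f) ≫ snd H T)
      rw [whiskerLeft_snd]
      exact R.downward_closed hf _
    have e : (H ◁ f) ≫ y = lift ((H ◁ f) ≫ fst H T) (𝟙 _) ≫ (x ((H ◁ f) ≫ snd H T) hm).down.1 := hy (H ◁ f) hm
    have e1 : (x ((H ◁ f) ≫ snd H T) hm).down.1 = (H ◁ snd H Y) ≫ (x f hf).down.1 := by
      exact (xc (whiskerLeft_snd _ _) hm (R.downward_closed hf _)).trans (hres f hf (snd H Y))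
    rw [e, e1, lift_whiskerLeft_assoc, whiskerLeft_fst, Category.id_comp, lift_fst_snd, Category.id_comp]
  have hyfam : AutFam.IsHomFamily H G y := by
    intro X g₁ g₂ t
    apply (hG (R.pullback t) ((J S).pullback_stable t hR)).isSeparatedFor.ext
    intro Z h hh
    have key : ∀ g : X ⟶ H, h ≫ lift g t ≫ y = lift (h ≫ g) (𝟙 Z) ≫ (x (h ≫ t) hh).down.1 := fun g => by
      rw [← hamal (h ≫ t) hh, lift_whiskerLeft_assoc, Category.id_comp, comp_lift_assoc]
    change h ≫ _ = h ≫ _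
    rw [MonObj.comp_mul, key, key, key, MonObj.comp_mul]
    exact (x (h ≫ t) hh).down.2 Z _ _ _
  refine ⟨⟨⟨y, hyfam⟩⟩, fun Y f hf => ?_, fun z hz => ?_⟩
  · exact ULift.ext _ _ (Subtype.ext (hamal f hf))
  · refine ULift.ext _ _ (Subtype.ext (hyu _ fun Z g hg => ?_))
    change g ≫ z.down.1 = lift (g ≫ fst H T) (𝟙 Z) ≫ (x (g ≫ snd H T) hg).down.1
    rw [← hz (g ≫ snd H T) hg]
    change g ≫ z.down.1 = lift (g ≫ fst H T) (𝟙 Z) ≫ (H ◁ (g ≫ snd H T)) ≫ z.down.1
    rw [lift_whiskerLeft_assoc, Category.id_comp, ← comp_lift_assoc, lift_fst_snd, Category.id_comp]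

/-- Families of homomorphisms, as an fppf sheaf. -/
noncomputable def homFamSh : Sp S :=
  ⟨homFamPre H G, (isSheaf_iff_isSheaf_of_type _ _).2 (isSheaf_homFamPre H G)⟩

/-- Sections of the sheaf of families. -/
noncomputable def secEquiv (T : Over S) :
    ((yon S).obj T ⟶ homFamSh H G) ≃ {φ : H ⊗ T ⟶ G // AutFam.IsHomFamily H G φ} :=
  (J S).uliftYonedaEquiv.{u + 1}.trans Equiv.ulift

theorem secEquiv_comp {T T' : Over S} (f : T' ⟶ T) (p : (yon S).obj T ⟶ homFamSh H G) :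
    (secEquiv H G T' ((yon S).map f ≫ p)).1 = (H ◁ f) ≫ (secEquiv H G T p).1 := by
  change ((J S).uliftYonedaEquiv.{u + 1} ((yon S).map f ≫ p)).down.1 = _
  rw [← GrothendieckTopology.uliftYonedaEquiv_naturality]
  rfl

theorem sec_ext {T : Over S} {p q : (yon S).obj T ⟶ homFamSh H G}
    (h : (secEquiv H G T p).1 = (secEquiv H G T q).1) : p = q :=
  (secEquiv H G T).injective (Subtype.ext h)

/-- The map to the final object. -/
noncomputable def toFinal : homFamSh H G ⟶ (yon S).obj (𝟙_ (Over S)) :=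
  ⟨{ app := fun T => ↾fun _ => ULift.up (toUnit T.unop)
     naturality := fun T T' f => by
       ext φ
       exact ULift.ext _ _ (toUnit_unique _ _) }⟩

theorem hom_final_ext {F : Sp S} (a b : F ⟶ (yon S).obj (𝟙_ (Over S))) : a = b :=
  GrothLib.AlgSp.hom_ext fun T p => by
    obtain ⟨x, hx⟩ := (yon S).map_surjective (p ≫ a)
    obtain ⟨y, hy⟩ := (yon S).map_surjective (p ≫ b)
    rw [← hx, ← hy, toUnit_unique x y]

end GrothLib.HomScheme
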