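import Groth.Agent.Lib.AlgSp.LqfDescent
import Groth.Agent.Lib.AlgSp.Points
import Groth.Agent.Lib.HomScheme.Sheaf2

/-!
Schemes of homomorphisms exist if they exist etale locally and are separated and locally quasi-finite there.
-/

set_option backward.isDefEq.respectTransparency false

universe u

open CategoryTheory MonoidalCategory CartesianMonoidalCategory MonObj GrpObj AlgebraicGeometry
open CategoryTheory.Limits Opposite
open GrothLib.DiagGrp

namespace GrothLib.HomScheme

open _root_.AlgSp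

variable {S : Scheme.{u}} {H G : Over S} [GrpObj H] [GrpObj G]

theorem map_unbcFam {V : Scheme.{u}} (f : V ⟶ S) {T T' : Over V} (φ' : Red.bc f H ⊗ T ⟶ Red.bc f G) (v : T' ⟶ T) :
    (H ◁ (Over.map f).map v) ≫ unbcFam f φ' = unbcFam f ((Red.bc f H ◁ v) ≫ φ') := by
  rw [← bcFam_unbcFam f φ' v, unbcFam_bcFam]

theorem bcFam_id_unbcFam {V : Scheme.{u}} (f : V ⟶ S) {T : Over V} (φ' : Red.bc f H ⊗ T ⟶ Red.bc f G) :
    bcFam f (unbcFam f φ') (𝟙 _) = φ' := by
  have e := bcFam_unbcFam f φ' (𝟙 T)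
  rwa [CategoryTheory.Functor.map_id, MonoidalCategory.whiskerLeft_id, Category.id_comp] at e

theorem unbcFam_injective {V : Scheme.{u}} (f : V ⟶ S) {T : Over V} {φ ψ : Red.bc f H ⊗ T ⟶ Red.bc f G}
    (h : unbcFam f φ = unbcFam f ψ) : φ = ψ := by
  rw [← bcFam_id_unbcFam f φ, h, bcFam_id_unbcFam]

/-- Two representing objects are isomorphic. -/
theorem representsHom_unique {A B : Over S} {υ : H ⊗ A ⟶ G} {υ' : H ⊗ B ⟶ G}
    (hA : AutFam.RepresentsHom H G A υ) (hB : AutFam.RepresentsHom H G B υ') :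
    ∃ e : A ≅ B, (H ◁ e.hom) ≫ υ' = υ := by
  obtain ⟨a, ha, -⟩ := hB.2 A υ hA.1
  obtain ⟨b, hb, -⟩ := hA.2 B υ' hB.1
  refine ⟨⟨a, b, (hA.2 A υ hA.1).unique ?_ ?_, (hB.2 B υ' hB.1).unique ?_ ?_⟩, ha⟩ <;>
    simp_all [MonoidalCategory.whiskerLeft_comp]

/-- Over a member of the covering the sheaf of families is the given scheme. -/
theorem isPullback_local {V : Scheme.{u}} (f : V ⟶ S) {A : Over V} {υ : Red.bc f H ⊗ A ⟶ Red.bc f G}
    (h : AutFam.RepresentsHom (Red.bc f H) (Red.bc f G) A υ) :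
    ∃ u : (yon S).obj ((Over.map f).obj A) ⟶ homFamSh H G,
      IsPullback u ((yon S).map (Over.homMk A.hom rfl : (Over.map f).obj A ⟶ Over.mk f)) (toFinal H G)
        ((yon S).map (toUnit (Over.mk f))) := by
  refine ⟨(secEquiv H G _).symm ⟨unbcFam f υ, isHomFamily_unbcFam f υ h.1⟩, ?_⟩
  set u := (secEquiv H G ((Over.map f).obj A)).symm ⟨unbcFam f υ, isHomFamily_unbcFam f υ h.1⟩
  set q : (Over.map f).obj A ⟶ Over.mk f := Over.homMk A.hom rfl
  have hu : (secEquiv H G _ u).1 = unbcFam f υ := by simp [u]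
  refine GrothLib.AlgSp.isPullback_of_yon (hom_final_ext _ _) fun T a b _ => ?_
  obtain ⟨b, rfl⟩ := (yon S).map_surjective b
  set φ := (secEquiv H G T a).1 with hφ
  let T' : Over V := Over.mk b.left
  let k : (Over.map f).obj T' ≅ T := Over.isoMk (Iso.refl _) (by
    change 𝟙 _ ≫ T.hom = b.left ≫ f
    rw [Category.id_comp]
    exact (Over.w b).symm)
  have hfam : AutFam.IsHomFamily (Red.bc f H) (Red.bc f G) (bcFam f φ k.hom) :=
    isHomFamily_bcFam f (secEquiv H G T a).2 _
  obtain ⟨v, hv, hvu⟩ := h.2 T' _ hfam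
  have hv' : (H ◁ (Over.map f).map v) ≫ unbcFam f υ = (H ◁ k.hom) ≫ φ := by
    rw [map_unbcFam, hv, unbcFam_bcFam]
  refine ⟨(yon S).map (k.inv ≫ (Over.map f).map v), ⟨?_, ?_⟩, fun c ⟨hc₁, hc₂⟩ => ?_⟩
  · refine sec_ext H G ?_
    rw [secEquiv_comp, hu, MonoidalCategory.whiskerLeft_comp, Category.assoc, hv', ← Category.assoc,
      ← MonoidalCategory.whiskerLeft_comp, Iso.inv_hom_id, MonoidalCategory.whiskerLeft_id, Category.id_comp]
  · rw [← Functor.map_comp]
    congr 1
    apply Over.OverMorphism.ext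
    change (𝟙 _ ≫ v.left) ≫ A.hom = b.left
    rw [Category.id_comp]
    exact Over.w v
  · obtain ⟨c, rfl⟩ := (yon S).map_surjective c
    rw [← Functor.map_comp] at hc₂
    have hc : c.left ≫ A.hom = b.left := congrArg (fun t => t.left) ((yon S).map_injective hc₂)
    let v' : T' ⟶ A := Over.homMk c.left hc
    have hcv : k.inv ≫ (Over.map f).map v' = c := Over.OverMorphism.ext (Category.id_comp _)
    have hfam' : (H ◁ (Over.map f).map v') ≫ unbcFam f υ = (H ◁ k.hom) ≫ φ := by
      rw [hφ, ← hc₁, secEquiv_comp, hu, ← hcv, ← Category.assoc, ← MonoidalCategory.whiskerLeft_comp,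
        Iso.hom_inv_id_assoc]
    have hv'' : v' = v := hvu v' (by
      refine unbcFam_injective f ?_
      rw [← map_unbcFam, hfam', unbcFam_bcFam])
    rw [← hcv, hv'']

variable (hloc : ∀ s : S, ∃ (V : Scheme.{u}) (f : V ⟶ S), Etale f ∧ s ∈ Set.range f.base ∧
  ∃ (A : Over V) (υ : Red.bc f H ⊗ A ⟶ Red.bc f G), AutFam.RepresentsHom (Red.bc f H) (Red.bc f G) A υ ∧
    LocallyQuasiFinite A.hom ∧ LocallyOfFiniteType A.hom ∧ IsSeparated A.hom)

include hloc in
/-- Effective descent of schemes of homomorphisms. -/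
theorem exists_rep_of_etale_local :
    ∃ (A : Over S) (υ : H ⊗ A ⟶ G), AutFam.RepresentsHom H G A υ := by
  have key : ∀ s : S, ∃ (U : S.Opens) (M : Over S) (j : (yon S).obj M ⟶ homFamSh H G) (p : M ⟶ Over.mk U.ι),
      s ∈ U ∧ IsPullback j ((yon S).map p) (toFinal H G) ((yon S).map (toUnit (Over.mk U.ι))) := by
    intro s
    obtain ⟨V, f, hf, hs, A, υ, hA, hlqf, hlft, hsep⟩ := hloc s
    obtain ⟨u, hu⟩ := isPullback_local f hA
    let U : S.Opens := ⟨Set.range f.base, f.isOpenMap.isOpen_range⟩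
    let c₀ : V ⟶ U := IsOpenImmersion.lift U.ι f (by rw [Scheme.Opens.range_ι]; exact subset_rfl)
    have hc₀ : c₀ ≫ U.ι = f := IsOpenImmersion.lift_fac _ _ _
    let c : Over.mk f ⟶ Over.mk U.ι := Over.homMk c₀ hc₀
    haveI : Etale c₀ := by
      haveI : Etale (c₀ ≫ U.ι) := by rw [hc₀]; exact hf
      exact Etale.of_comp c₀ U.ι
    haveI : Surjective c₀ := ⟨fun x => by
      obtain ⟨v, hv⟩ : (U.ι x) ∈ Set.range f.base := x.2
      refine ⟨v, U.ι.injective ?_⟩
      rw [← Scheme.Hom.comp_apply, hc₀]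
      exact hv⟩
    haveI : Sheaf.IsLocallySurjective ((yon S).map c) :=
      GrothLib.AlgSp.isLocallySurjective_of_repWith ((repWith_yon_map_iff _ _).2 (inferInstanceAs (Flat c₀)))
        ((repWith_yon_map_iff _ _).2 (inferInstanceAs (LocallyOfFinitePresentation c₀)))
        ((repWith_yon_map_iff _ _).2 (inferInstanceAs (Surjective c₀)))
    let sU := IsPullback.of_hasPullback (toFinal H G) ((yon S).map (toUnit (Over.mk U.ι)))
    let q : (Over.map f).obj A ⟶ Over.mk f := Over.homMk A.hom rfl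
    let pr := sU.lift u ((yon S).map q ≫ (yon S).map c) (hom_final_ext _ _)
    have sq : IsPullback pr ((yon S).map q)
        (pullback.snd (toFinal H G) ((yon S).map (toUnit (Over.mk U.ι)))) ((yon S).map c) := by
      refine IsPullback.of_right ?_ (by simp only [pr, IsPullback.lift_snd]) sU
      have e : (yon S).map c ≫ (yon S).map (toUnit (Over.mk U.ι)) = (yon S).map (toUnit (Over.mk f)) :=
        hom_final_ext _ _
      rw [e]
      simpa only [pr, IsPullback.lift_fst] using hu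
    have hrep := GrothLib.AlgSp.representable_of_base_lqf ((yon S).map c) sq
      ((repWith_yon_map_iff _ _).2 (show LocallyQuasiFinite A.hom from hlqf))
      ((repWith_yon_map_iff _ _).2 (show LocallyOfFiniteType A.hom from hlft))
      ((repWith_yon_map_iff _ _).2 (show IsSeparated A.hom from hsep))
    obtain ⟨M, fst, snd, sqM⟩ := GrothLib.AlgSp.exists_isPullback_of_representable hrep (𝟙 _)
    refine ⟨U, M, fst ≫ pullback.fst _ _, snd, hs, ?_⟩
    have := sqM.paste_horiz sU
    rwa [Category.id_comp] at this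
  choose U M j p hsU hsq using key
  have hj : ∀ s, RepWith @IsOpenImmersion (j s) := fun s =>
    GrothLib.AlgSp.repWith_of_isPullback (hsq s).flip
      ((repWith_yon_map_iff _ _).2 (by
        have e : (toUnit (Over.mk (U s).ι)).left = (U s).ι :=
          (Category.comp_id _).symm.trans (Over.w (toUnit (Over.mk (U s).ι)))
        rw [e]
        infer_instance))
  obtain ⟨A, e, -, -⟩ := GrothLib.AlgSp.exists_iso_yon_of_openCover M j hj fun x => by
    obtain ⟨K, _, str, g, rfl⟩ := GrothLib.AlgSp.exists_ofPt x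
    set s := str (IsLocalRing.closedPoint K)
    have hr : Set.range str ⊆ Set.range (U s).ι := by
      rintro _ ⟨z, rfl⟩
      rw [Scheme.Opens.range_ι, Subsingleton.elim z (IsLocalRing.closedPoint K)]
      exact hsU s
    let l : Over.mk str ⟶ Over.mk (U s).ι :=
      Over.homMk (IsOpenImmersion.lift (U s).ι str hr) (IsOpenImmersion.lift_fac _ _ _)
    refine ⟨s, Points.ofPt ((hsq s).lift g ((yon S).map l) (hom_final_ext _ _)) (IsLocalRing.closedPoint K), ?_⟩
    rw [Points.map_ofPt, (hsq s).lift_fst]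
  let υ := secEquiv H G A e.hom
  refine ⟨A, υ.1, υ.2, fun T φ hφ => ?_⟩
  let p₀ := (secEquiv H G T).symm ⟨φ, hφ⟩
  obtain ⟨a, ha⟩ := (yon S).map_surjective (p₀ ≫ e.inv)
  have hp : ∀ b : T ⟶ A, (H ◁ b) ≫ υ.1 = φ ↔ (yon S).map b ≫ e.hom = p₀ := fun b => by
    rw [← secEquiv_comp]
    constructor
    · intro h
      refine sec_ext H G ?_
      rw [h]
      simp [p₀]
    · intro h
      rw [h]
      simp [p₀]
  refine ⟨a, (hp a).2 (by rw [ha, Category.assoc, Iso.inv_hom_id, Category.comp_id]), fun b hb => ?_⟩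
  apply (yon S).map_injective
  rw [ha, ← (hp b).1 hb, Category.assoc, Iso.hom_inv_id, Category.comp_id]

end GrothLib.HomScheme
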