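import Mathlib.AlgebraicGeometry.Morphisms.Proper
import Mathlib.AlgebraicGeometry.Morphisms.Etale
import Mathlib.RingTheory.TensorProduct.Maps
import Mathlib.AlgebraicGeometry.Pullbacks
import Groth.Agent.Lib.HomScheme.Family
import Groth.Agent.Lib.DiagGrp.CharHom
import Groth.Agent.Lib.DiagGrp.CharLocus
import Groth.Agent.Lib.DiagGrp.SubgroupEq

/-!
The scheme of homomorphisms between diagonalisable groups with finitely many character maps is finite étale.
-/

set_option backward.isDefEq.respectTransparency false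

universe u

open CategoryTheory MonoidalCategory CartesianMonoidalCategory MonObj GrpObj AlgebraicGeometry
open CategoryTheory.Limits
open GrothLib.DiagGrp

namespace GrothLib.HomScheme

/-- A morphism covered by finitely many sections over opens is universally closed. -/
theorem universallyClosed_of_sections {X W : Scheme.{u}} (g : X ⟶ W) {ι₀ : Type*} [Finite ι₀]
    (s : ι₀ → (W ⟶ X)) (hs : ∀ i, s i ≫ g = 𝟙 W) (hcov : ∀ x : X, ∃ (U : X.Opens) (i : ι₀), x ∈ U ∧ U.ι ≫ g ≫ s i = U.ι) :
    UniversallyClosed g := by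
  rw [universallyClosed_iff]
  intro X' W' p q g' sq Z hZ
  let s' : ι₀ → (W' ⟶ X') := fun i => sq.lift (𝟙 W') (q ≫ s i) (by rw [Category.assoc, hs, Category.comp_id, Category.id_comp])
  have hs' : ∀ i, s' i ≫ g' = 𝟙 W' := fun i => sq.lift_fst _ _ _
  have hx : ∀ x' : X', ∃ i, s' i (g' x') = x' := by
    intro x'
    obtain ⟨U, i, hxU, hU⟩ := hcov (p x')
    refine ⟨i, ?_⟩
    have h : (p ⁻¹ᵁ U).ι ≫ g' ≫ s' i = (p ⁻¹ᵁ U).ι := by
      apply sq.hom_ext
      · rw [Category.assoc, Category.assoc, hs', Category.comp_id]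
      · rw [Category.assoc, Category.assoc, sq.lift_snd, reassoc_of% sq.w, ← morphismRestrict_ι_assoc, hU,
          morphismRestrict_ι]
    have h1 := congrArg (fun t : ((p ⁻¹ᵁ U : X'.Opens) : Scheme.{u}) ⟶ X' => t ⟨x', hxU⟩) h
    simpa using h1
  have h : g' '' Z = ⋃ i, (s' i) ⁻¹' Z := by
    ext w
    constructor
    · rintro ⟨x', hx', rfl⟩
      obtain ⟨i, hi⟩ := hx x'
      exact Set.mem_iUnion.mpr ⟨i, by rw [Set.mem_preimage, hi]; exact hx'⟩
    · intro hw
      obtain ⟨i, hi⟩ := Set.mem_iUnion.mp hw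
      exact ⟨_, hi, by rw [← Scheme.Hom.comp_apply, hs']; rfl⟩
  change IsClosed (g' '' Z)
  rw [h]
  exact isClosed_iUnion_of_finite fun i => hZ.preimage (s' i).continuous

theorem finite_of_isFinite_snd (R L : Type u) [CommRing R] [Field L] [Algebra R L] (M : Type) [AddCommGroup M]
    (h : IsFinite (pullback.snd (Spec.map (CommRingCat.ofHom (algebraMap R (MonoidAlgebra R (Multiplicative M)))))
      (Spec.map (CommRingCat.ofHom (algebraMap R L))))) : Finite M := by
  rw [← pullbackSpecIso_hom_snd, MorphismProperty.cancel_left_of_respectsIso @IsFinite, IsFinite.SpecMap_iff] at h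
  let ψ : TensorProduct R (MonoidAlgebra R (Multiplicative M)) L →ₐ[R] MonoidAlgebra L (Multiplicative M) :=
    Algebra.TensorProduct.productMap (MonoidAlgebra.lift R _ (Multiplicative M) (MonoidAlgebra.of L _))
      (IsScalarTower.toAlgHom R L (MonoidAlgebra L (Multiplicative M)))
  have hψ : Function.Surjective ψ := by
    intro z
    induction z using MonoidAlgebra.induction_on with
    | of m => exact ⟨TensorProduct.tmul _ (MonoidAlgebra.of R _ m) 1, by
        rw [Algebra.TensorProduct.productMap_apply_tmul, map_one, _root_.mul_one, MonoidAlgebra.lift_of]⟩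
    | add a b ha hb =>
      obtain ⟨x, rfl⟩ := ha
      obtain ⟨y, rfl⟩ := hb
      exact ⟨x + y, map_add _ _ _⟩
    | smul r a ha =>
      obtain ⟨x, rfl⟩ := ha
      refine ⟨TensorProduct.tmul _ 1 r * x, ?_⟩
      rw [map_mul, Algebra.TensorProduct.productMap_apply_tmul, map_one, _root_.one_mul, Algebra.smul_def]
      rfl
  have h3 : (algebraMap L (MonoidAlgebra L (Multiplicative M))).Finite := by
    have e : ψ.toRingHom.comp (Algebra.TensorProduct.includeRight (R := R)
        (A := MonoidAlgebra R (Multiplicative M)) (B := L)).toRingHom =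
          algebraMap L (MonoidAlgebra L (Multiplicative M)) := by
      refine RingHom.ext fun r => ?_
      change ψ (TensorProduct.tmul _ 1 r) = _
      rw [Algebra.TensorProduct.productMap_apply_tmul, map_one, _root_.one_mul]
      rfl
    rw [← e]
    exact (RingHom.Finite.of_surjective ψ.toRingHom hψ).comp h
  haveI : Module.Finite L (MonoidAlgebra L (Multiplicative M)) := RingHom.finite_algebraMap.mp h3
  haveI : Finite (Multiplicative M) := Module.Finite.finite_basis
    (⟨MonoidAlgebra.coeffLinearEquiv L⟩ : Module.Basis (Multiplicative M) L (MonoidAlgebra L (Multiplicative M)))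
  exact Finite.of_equiv (Multiplicative M) Multiplicative.toAdd

/-- A diagonalisable group finite over a field has finite character group. -/
theorem finite_of_isFinite_DS (L : Type u) [Field L] (M : Type) [AddCommGroup M]
    [IsFinite (Red.DS (Spec (CommRingCat.of L)) M).hom] : Finite M := by
  letI : Algebra (ULift.{u} ℤ) L := ((Int.castRingHom L).comp (ULift.ringEquiv (R := ℤ)).toRingHom).toAlgebra
  refine finite_of_isFinite_snd (ULift.{u} ℤ) L M ?_
  have h0 : IsFinite (pullback.snd (Red.diag (ULift.{u} ℤ) M).hom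
    (Limits.IsTerminal.from specULiftZIsTerminal (Spec (CommRingCat.of L)))) := ‹_›
  rw [specULiftZIsTerminal.hom_ext (Limits.IsTerminal.from specULiftZIsTerminal (Spec (CommRingCat.of L)))
    (Spec.map (CommRingCat.ofHom (algebraMap (ULift.{u} ℤ) L)))] at h0
  exact h0

variable {W : Scheme.{u}} {M N : Type} [AddCommGroup M] [AddCommGroup N]

/-- Schemes of homomorphisms between diagonalisable groups are finite étale. -/
theorem finite_etale_diagHom (hN : AddGroup.FG N) [Finite (N →+ M)] {A : Over W}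
    {υ : Red.DS W M ⊗ A ⟶ Red.DS W N} (h : AutFam.RepresentsHom (Red.DS W M) (Red.DS W N) A υ)
    [IsAffineHom A.hom] : IsFinite A.hom ∧ Etale A.hom := by
  have hsec : ∀ φ : N →+ M, ∃ b : 𝟙_ (Over W) ⟶ A, (Red.DS W M ◁ b) ≫ υ = fst _ _ ≫ Red.DSmap W φ := fun φ => by
    obtain ⟨b, hb, -⟩ := h.2 (𝟙_ (Over W)) (fst _ _ ≫ Red.DSmap W φ) fun X g₁ g₂ t => by
      rw [lift_fst_assoc, lift_fst_assoc, lift_fst_assoc]
      exact MonObj.mul_comp _ _ (Red.DSmap W φ)
    exact ⟨b, hb⟩
  choose b hb using hsec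
  set g := A.hom
  let v₀ : Red.bc g (Red.DS W M) ⟶ Red.bc g (Red.DS W N) := homOf g υ
  haveI : IsMonHom v₀ := isMonHom_homOf g h.1
  have hterm : Limits.IsTerminal.from specULiftZIsTerminal A.left =
      g ≫ Limits.IsTerminal.from specULiftZIsTerminal W := specULiftZIsTerminal.hom_ext _ _
  let eM := bcGrpComp (Red.diag (ULift.{u} ℤ) M) (Limits.IsTerminal.from specULiftZIsTerminal W) g
    (Limits.IsTerminal.from specULiftZIsTerminal A.left) hterm
  let eN := bcGrpComp (Red.diag (ULift.{u} ℤ) N) (Limits.IsTerminal.from specULiftZIsTerminal W) g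
    (Limits.IsTerminal.from specULiftZIsTerminal A.left) hterm
  let iM : Red.DS A.left M ≅ Red.bc g (Red.DS W M) := (Grp.forget _).mapIso eM
  let iN : Red.DS A.left N ≅ Red.bc g (Red.DS W N) := (Grp.forget _).mapIso eN
  haveI : IsMonHom iM.hom := eM.hom.hom.isMonHom_hom
  haveI : IsMonHom iN.inv := eN.inv.hom.isMonHom_hom
  let v : Red.DS A.left M ⟶ Red.DS A.left N := iM.hom ≫ v₀ ≫ iN.inv
  have hnat : ∀ φ : N →+ M, Red.DSmap A.left φ ≫ iN.hom = iM.hom ≫ (Over.pullback g).map (Red.DSmap W φ) :=
    fun φ => bcGrpComp_naturality _ _ g _ hterm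
  choose U hUc hU hUeq using fun φ : N →+ M => isClopen_charLocus hN v φ
  have hcov : ∀ x : A.left, ∃ φ, x ∈ U φ := fun x => by
    obtain ⟨φ, hφ⟩ := exists_char v (L := A.left.residueField x) (A.left.fromSpecResidueField x)
    exact ⟨φ, (hU φ x).mpr hφ⟩
  -- over `U φ` the universal family is the one of `φ`
  have hres : ∀ φ : N →+ M, (U φ).ι ≫ g ≫ (b φ).left = (U φ).ι := by
    intro φ
    have h1 : (Over.pullback (U φ).ι).map v₀ = (Over.pullback (U φ).ι).map ((Over.pullback g).map (Red.DSmap W φ)) := by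
      have e1 : v₀ = iM.inv ≫ v ≫ iN.hom := by simp [v]
      rw [e1, Functor.map_comp, Functor.map_comp, hUeq φ, ← Functor.map_comp, ← Functor.map_comp, hnat,
        Iso.inv_hom_id_assoc]
    let T : Over W := Over.mk ((U φ).ι ≫ g)
    let t₁ : T ⟶ A := Over.homMk (U φ).ι rfl
    have h2 : (Red.DS W M ◁ t₁) ≫ υ = (Red.DS W M ◁ (toUnit T ≫ b φ)) ≫ υ := by
      rw [MonoidalCategory.whiskerLeft_comp, Category.assoc, hb, whiskerLeft_fst_assoc]
      let Y := Red.DS W M ⊗ T
      have ha : ((snd (Red.DS W M) T).left ≫ (U φ).ι) ≫ g = Y.hom := by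
        rw [Category.assoc]
        exact Over.w (snd (Red.DS W M) T)
      have h3 := ev_homOf g υ _ ha (fst (Red.DS W M) T)
      have h4 : DescentHom.ev g v₀ _ ha (fst (Red.DS W M) T) =
          DescentHom.ev g ((Over.pullback g).map (Red.DSmap W φ)) _ ha (fst (Red.DS W M) T) := by
        simp only [DescentHom.ev]
        exact congrArg (fun z => _ ≫ (bcPointMulEquiv g (Red.DS W N) _).symm z)
          (comp_eq_of_bc (U φ).ι h1 (Y := Over.mk ((snd (Red.DS W M) T).left ≫ (U φ).ι))
            (snd (Red.DS W M) T).left rfl _)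
      rw [h4, ← DescentHom.eq_ev_of_map_eq g _ (Red.DSmap W φ) rfl] at h3
      rw [h3]
      refine congrArg (· ≫ υ) ?_
      apply CartesianMonoidalCategory.hom_ext
      · rw [whiskerLeft_fst]
        exact (lift_fst _ _).symm
      · rw [whiskerLeft_snd, lift_snd]
        exact Over.OverMorphism.ext rfl
    have h5 := (h.2 T _ (fun X g₁ g₂ t => by
      rw [lift_whiskerLeft_assoc, lift_whiskerLeft_assoc, lift_whiskerLeft_assoc]
      exact h.1 X g₁ g₂ (t ≫ t₁))).unique rfl h2.symm
    have h6 : t₁.left = (toUnit T).left ≫ (b φ).left := congrArg (fun t => t.left) h5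
    rw [← Category.assoc]
    exact h6.symm
  have hmem : ∀ (φ : N →+ M) (w : W), (b φ).left w ∈ U φ := by
    intro φ w
    have := isMonHom_mul_inv (mul_comm_of_charts (hasChartsFpqc_DS (M := N) A.left fgM hN)) v (Red.DSmap A.left φ)
    have hb' : (b φ).left ≫ g = 𝟙 W := Over.w (b φ)
    have ht : TrivOver (v * (Red.DSmap A.left φ)⁻¹) (b φ).left := by
      intro Y τ hτ y
      rw [MonObj.comp_mul, GrpObj.comp_inv, mul_inv_eq_one]
      obtain ⟨z, hz⟩ := (bcPoint g (Red.DS W M) Y).surjective (y ≫ iM.hom)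
      have e1 : y = bcPoint g (Red.DS W M) Y z ≫ iM.inv := by rw [hz, Category.assoc, Iso.hom_inv_id, Category.comp_id]
      rw [← cancel_mono iN.hom, Category.assoc, Category.assoc, Category.assoc y (Red.DSmap A.left φ), hnat, e1]
      simp only [v, Category.assoc, Iso.inv_hom_id_assoc, Iso.inv_hom_id, Category.comp_id]
      rw [← bcPoint_comp_right]
      refine (comp_homOf g υ z).trans (congrArg (bcPoint g _ Y) ?_)
      have e2 : (Over.homMk (V := Over.mk g) Y.hom rfl : (Over.map g).obj Y ⟶ A) = toUnit _ ≫ b φ := by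
        apply Over.OverMorphism.ext
        change Y.hom = (Y.hom ≫ g) ≫ (b φ).left
        rw [← hτ, Category.assoc τ, hb']
        erw [Category.comp_id]
      rw [e2, ← lift_whiskerLeft_assoc, hb, lift_fst_assoc]
    have hf := (trivOver_field_iff (v * (Red.DSmap A.left φ)⁻¹) (L := W.residueField w)
      (W.fromSpecResidueField w ≫ (b φ).left)).mp (ht.precomp _ _ rfl)
    have hp : (W.fromSpecResidueField w ≫ (b φ).left) (IsLocalRing.closedPoint (W.residueField w)) = (b φ).left w :=
      congrArg (b φ).left (Scheme.fromSpecResidueField_apply _ _)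
    exact (hU φ _).mpr
      ((congrArg (fun p => TrivOver (v * (Red.DSmap A.left φ)⁻¹) (A.left.fromSpecResidueField p)) hp).mp hf)
  have hiso : ∀ φ : N →+ M, IsIso ((U φ).ι ≫ g) := fun φ => by
    let s := IsOpenImmersion.lift (U φ).ι (b φ).left (by
      rintro _ ⟨w, rfl⟩
      exact (Scheme.Opens.range_ι _).ge (hmem φ w))
    have hs : s ≫ (U φ).ι = (b φ).left := IsOpenImmersion.lift_fac _ _ _
    refine ⟨s, ?_, ?_⟩
    · rw [← cancel_mono (U φ).ι, Category.assoc, hs, Category.id_comp, Category.assoc, hres]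
    · rw [← Category.assoc, hs]
      exact Over.w (b φ)
  have hE : Etale g := by
    rw [IsZariskiLocalAtSource.iff_of_iSup_eq_top (P := @Etale) U (eq_top_iff.mpr fun x _ =>
      TopologicalSpace.Opens.mem_iSup.mpr (hcov x))]
    intro φ
    haveI := hiso φ
    infer_instance
  haveI : UniversallyClosed g := universallyClosed_of_sections g (fun φ => (b φ).left) (fun φ => Over.w (b φ))
    fun x => by
      obtain ⟨φ, hφ⟩ := hcov x
      exact ⟨U φ, φ, hφ, hres φ⟩
  haveI := hE
  haveI : IsProper g := { }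
  exact ⟨IsFinite.iff_isProper_and_isAffineHom.mpr ⟨inferInstance, inferInstance⟩, hE⟩

end GrothLib.HomScheme
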