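import Mathlib.GroupTheory.Abelianization.Defs
import Groth.Agent.Lib.HomScheme.ConstChart
import Groth.Agent.Lib.HomScheme.Dual

/-!
Over a chart where a group is constant its dual is diagonalisable.
-/

set_option backward.isDefEq.respectTransparency false

universe u

open CategoryTheory CategoryTheory.Limits MonoidalCategory CartesianMonoidalCategory MonObj GrpObj AlgebraicGeometry
open GrothLib.DiagGrp GrothLib.RepLocal

namespace GrothLib.HomScheme

variable {S : Scheme.{u}} {W : Scheme.{u}} (f : W ⟶ S)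

/-- The multiplicative group over a member of a covering. -/
noncomputable def gmGrpIso : Grp.mk (Red.DS W ℤ) ≅ Grp.mk (Red.bc f (Red.Gm S)) :=
  bcGrpComp (Red.diag (ULift.{u} ℤ) ℤ) (Limits.IsTerminal.from specULiftZIsTerminal S) f
    (Limits.IsTerminal.from specULiftZIsTerminal W) (specULiftZIsTerminal.hom_ext _ _)

/-- The multiplicative group over a member of a covering. -/
noncomputable def gmIso : Red.DS W ℤ ≅ Red.bc f (Red.Gm S) := (Grp.forget _).mapIso (gmGrpIso f)

instance : IsMonHom (gmIso f).hom := (gmGrpIso f).hom.hom.isMonHom_hom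

instance : IsMonHom (gmIso f).inv := (gmGrpIso f).inv.hom.isMonHom_hom

variable (A : Type) [AddCommGroup A]

/-- The character attached to an element, over the original base. -/
noncomputable def qv (x : A) : (Over.map f).obj (Red.DS W A) ⟶ Red.Gm S :=
  (bcPointMulEquiv f (Red.Gm S) _).symm (Red.DSmap W (zmultiplesHom A x) ≫ (gmIso f).hom)

theorem qv_add (x y : A) : qv f A (x + y) = qv f A x * qv f A y := by
  have h : zmultiplesHom A (x + y) = zmultiplesHom A x + zmultiplesHom A y := AddMonoidHom.ext_int (by simp)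
  rw [qv, qv, qv, ← map_mul, h, DSmap_add]
  exact congrArg _ (MonObj.mul_comp _ _ (gmIso f).hom)

theorem bcPoint_map_qv {X : Over W} (z : X ⟶ Red.DS W A) (x : A) :
    bcPointMulEquiv f (Red.Gm S) X ((Over.map f).map z ≫ qv f A x) =
      z ≫ Red.DSmap W (zmultiplesHom A x) ≫ (gmIso f).hom :=
  (bcPoint_comp f z _).trans (congrArg (z ≫ ·) ((bcPointMulEquiv f (Red.Gm S) _).apply_symm_apply _))

theorem map_mul_qv {X : Over W} (a b : X ⟶ Red.DS W A) (x : A) :
    (Over.map f).map (a * b) ≫ qv f A x =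
      ((Over.map f).map a ≫ qv f A x) * ((Over.map f).map b ≫ qv f A x) := by
  apply (bcPointMulEquiv f (Red.Gm S) _).injective
  rw [map_mul, bcPoint_map_qv, bcPoint_map_qv, bcPoint_map_qv]
  exact MonObj.mul_comp _ _ (Red.DSmap W (zmultiplesHom A x) ≫ (gmIso f).hom)

variable (M : Type) [Group M]

/-- The abelianisation, written additively. -/
abbrev AddAb : Type := Additive (Abelianization M)

variable {M}

/-- The class of an element. -/
def cl (m : M) : AddAb M := Additive.ofMul (Abelianization.of m)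

theorem cl_mul (m n : M) : cl (m * n) = cl m + cl n := by
  simp only [cl, map_mul]
  rfl

theorem cl_surjective : Function.Surjective (cl (M := M)) := fun x =>
  QuotientGroup.induction_on (C := fun y => ∃ m : M, cl m = Additive.ofMul y) (Additive.toMul x) fun m => ⟨m, rfl⟩

/-- A multiplicative family of points gives a character. -/
theorem exists_charHom {N : Type} [AddCommGroup N] {C : Type u} [CommRing C] (p : Spec (CommRingCat.of C) ⟶ W)
    (cp : M → (Over.mk p ⟶ Red.DS W N)) (hcp : ∀ m n, cp (m * n) = cp m * cp n) (n₀ : Multiplicative N) :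
    ∃ χ₀ : M →* C, ∀ m, χ₀ m = (dsPoint N p).symm (cp m) n₀ :=
  ⟨{ toFun := fun m => (dsPoint N p).symm (cp m) n₀
     map_one' := by
      have h := congrArg (fun z => (dsPoint N p).symm z n₀) ((hcp 1 1).symm.trans (congrArg cp (_root_.one_mul 1)))
      simp only [map_mul] at h
      exact ((Group.isUnit n₀).map ((dsPoint N p).symm (cp 1))).mul_left_cancel (h.trans (_root_.mul_one _).symm)
     map_mul' := fun m n => by rw [hcp, map_mul]; rfl }, fun _ => rfl⟩

/-- Points of the diagonalisable group with abelianised character group are characters. -/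
theorem qv_universal {T : Over S} (hT : IsAffine T.left) (t : T ⟶ Over.mk f) (c : M → (T ⟶ Red.Gm S))
    (hc : ∀ m n, c (m * n) = c m * c n) :
    ∃! a : T ⟶ (Over.map f).obj (Red.DS W (AddAb M)),
      a ≫ (Over.homMk (Red.DS W (AddAb M)).hom rfl : _ ⟶ Over.mk f) = t ∧
      ∀ m, a ≫ qv f (AddAb M) (cl m) = c m := by
  let p : Spec Γ(T.left, ⊤) ⟶ W := T.left.isoSpec.inv ≫ t.left
  let k : (Over.map f).obj (Over.mk p) ≅ T := Over.isoMk T.left.isoSpec.symm (by
    change T.left.isoSpec.inv ≫ T.hom = (T.left.isoSpec.inv ≫ t.left) ≫ f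
    rw [Category.assoc]
    exact congrArg (_ ≫ ·) (Over.w t).symm)
  let cp : M → (Over.mk p ⟶ Red.DS W ℤ) := fun m =>
    bcPointMulEquiv f (Red.Gm S) _ (k.hom ≫ c m) ≫ (gmIso f).inv
  have hcp : ∀ m n, cp (m * n) = cp m * cp n := fun m n => by
    simp only [cp]
    rw [hc, MonObj.comp_mul, map_mul]
    exact MonObj.mul_comp _ _ (gmIso f).inv
  obtain ⟨χ₀, hχ₀⟩ := exists_charHom p cp hcp (Multiplicative.ofAdd (1 : ℤ))
  let χ : Multiplicative (AddAb M) →* Γ(T.left, ⊤) :=
    { toFun := fun x => ((Abelianization.lift χ₀.toHomUnits) (Additive.toMul x.toAdd) : Γ(T.left, ⊤))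
      map_one' := by simp
      map_mul' := fun x y => by simp }
  have hval : ∀ (χ' : Multiplicative (AddAb M) →* Γ(T.left, ⊤)) (m : M),
      (Over.map f).map (dsPoint (AddAb M) p χ') ≫ qv f (AddAb M) (cl m) = k.hom ≫ c m ↔
        χ' (Multiplicative.ofAdd (cl m)) = χ₀ m := by
    intro χ' m
    rw [← (bcPointMulEquiv f (Red.Gm S) _).injective.eq_iff, bcPoint_map_qv, ← Category.assoc, ← Iso.eq_comp_inv,
      dsPoint_DSmap]
    change dsPoint ℤ p _ = cp m ↔ _
    rw [← MulEquiv.eq_symm_apply]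
    constructor
    · intro h
      rw [hχ₀, ← h]
      change χ' _ = χ' (Multiplicative.ofAdd ((1 : ℤ) • cl m))
      rw [one_zsmul]
    · intro h
      refine MonoidHom.ext_mint ?_
      change χ' (Multiplicative.ofAdd ((1 : ℤ) • cl m)) = _
      rw [one_zsmul, h, hχ₀]
  have hq₀ : ∀ a₀ : Over.mk p ⟶ Red.DS W (AddAb M), (Over.map f).map a₀ ≫
      (Over.homMk (Red.DS W (AddAb M)).hom rfl : _ ⟶ Over.mk f) = k.hom ≫ t :=
    fun a₀ => Over.OverMorphism.ext (Over.w a₀)
  refine ⟨k.inv ≫ (Over.map f).map (dsPoint (AddAb M) p χ),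
    ⟨by rw [Category.assoc, hq₀, k.inv_hom_id_assoc], fun m => ?_⟩, fun b ⟨hb₁, hb₂⟩ => ?_⟩
  · rw [Category.assoc, (hval χ m).mpr rfl, k.inv_hom_id_assoc]
  · let b₀ : Over.mk p ⟶ Red.DS W (AddAb M) :=
      Over.homMk (k.hom ≫ b).left (congrArg (fun z => (k.hom ≫ z).left) hb₁)
    have hb₀ : (Over.map f).map b₀ = k.hom ≫ b := Over.OverMorphism.ext rfl
    obtain ⟨χ', hχ'⟩ := (dsPoint (AddAb M) p).surjective b₀
    rw [← hχ'] at hb₀
    suffices χ' = χ by rw [← cancel_epi k.hom, k.hom_inv_id_assoc, ← hb₀, this]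
    refine MonoidHom.ext fun x => ?_
    obtain ⟨m, hm⟩ := cl_surjective x.toAdd
    obtain rfl : x = Multiplicative.ofAdd (cl m) := by rw [hm]; rfl
    exact ((hval χ' m).mp (by rw [hb₀, Category.assoc, hb₂ m])).trans rfl

variable (R : Over S) [GrpObj R]

/-- Over a chart the dual is diagonalisable. -/
theorem exists_chart_dual (hch : ConstData R f) :
    ∃ (A : Type) (_ : AddCommGroup A) (υ : R ⊗ (Over.map f).obj (Red.DS W A) ⟶ Red.Gm S)
      (hυ : AutFam.IsHomFamily R (Red.Gm S) υ),
      RepOver (famPsh R (Red.Gm S))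
        (Over.homMk (Red.DS W A).hom rfl : (Over.map f).obj (Red.DS W A) ⟶ Over.mk f) ⟨υ, hυ⟩ ∧
      ∀ (X : Over W) (r : (Over.map f).obj X ⟶ R) (a b : X ⟶ Red.DS W A),
        lift r ((Over.map f).map (a * b)) ≫ υ =
          (lift r ((Over.map f).map a) ≫ υ) * (lift r ((Over.map f).map b) ≫ υ) := by
  obtain ⟨M, instM, ⟨C⟩⟩ := hch
  letI := instM
  obtain ⟨υ, hυ⟩ := C.exists_glue (G := Red.Gm S)
    (Over.homMk (Red.DS W (AddAb M)).hom rfl : (Over.map f).obj (Red.DS W (AddAb M)) ⟶ Over.mk f)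
    (fun m => qv f (AddAb M) (cl m))
  have hfam := C.isHomFamily hυ fun m n => by simp only [cl_mul, qv_add]
  refine ⟨AddAb M, inferInstance, υ, hfam, C.repOver hυ hfam fun T hT t c hc => qv_universal f hT t c hc,
    fun X r a b => C.mul_right hυ r ?_ ?_ fun m => map_mul_qv f _ a b _⟩ <;>
  · exact Over.OverMorphism.ext ((Over.w _).trans (Over.w _).symm)

end GrothLib.HomScheme
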