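import Groth.Agent.Lib.HomScheme.DualConst
import Groth.Agent.Lib.RepLocal.FpqcRep
import Groth.Agent.Lib.DiagGrp.SubgroupEq

/-!
Duals of twisted constant groups are of multiplicative type.
-/

set_option backward.isDefEq.respectTransparency false

universe u

open CategoryTheory CategoryTheory.Limits MonoidalCategory CartesianMonoidalCategory MonObj GrpObj AlgebraicGeometry
open GrothLib.DiagGrp GrothLib.RepLocal

namespace GrothLib.HomScheme

variable {S : Scheme.{u}} {R : Over S} [GrpObj R]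

theorem hom_ext_family {G D : Over S} [GrpObj G] {υ : R ⊗ D ⟶ G} (hD : AutFam.RepresentsHom R G D υ)
    {X : Over S} (d d' : X ⟶ D) (h : (R ◁ d) ≫ υ = (R ◁ d') ≫ υ) : d = d' :=
  (hD.2 X _ (isHomFamily_whiskerLeft hD.1 d')).unique h rfl

/-- A universal family over a chart identifies the chart with the base change. -/
theorem existsUnique_chart_point {G D : Over S} [GrpObj G] {υ : R ⊗ D ⟶ G} (hD : AutFam.RepresentsHom R G D υ)
    {W : Scheme.{u}} {f : W ⟶ S} {N : Over W} {υN : R ⊗ (Over.map f).obj N ⟶ G}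
    {hN : AutFam.IsHomFamily R G υN}
    (hrep : RepOver (famPsh R G) (Over.homMk N.hom rfl : (Over.map f).obj N ⟶ Over.mk f) ⟨υN, hN⟩)
    {a₀ : (Over.map f).obj N ⟶ D} (ha₀ : (R ◁ a₀) ≫ υ = υN) (Z : Over W) (d : (Over.map f).obj Z ⟶ D) :
    ∃! z : Z ⟶ N, (Over.map f).map z ≫ a₀ = d := by
  obtain ⟨a, ⟨ha₁, ha₂⟩, hau⟩ := hrep ((Over.map f).obj Z) (Over.homMk Z.hom rfl)
    ⟨(R ◁ d) ≫ υ, isHomFamily_whiskerLeft hD.1 d⟩
  let z : Z ⟶ N := Over.homMk a.left (congrArg (fun y => y.left) ha₁)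
  have hz : (Over.map f).map z = a := Over.OverMorphism.ext rfl
  have key : ∀ z : Z ⟶ N, (Over.map f).map z ≫ a₀ = d ↔
      (R ◁ (Over.map f).map z) ≫ υN = (R ◁ d) ≫ υ := fun z => by
    rw [← ha₀, ← Category.assoc, ← MonoidalCategory.whiskerLeft_comp]
    exact ⟨fun h => by rw [h], fun h => hom_ext_family hD _ _ h⟩
  refine ⟨z, (key z).mpr (by rw [hz]; exact congrArg Subtype.val ha₂), fun z' hz' => ?_⟩
  have h := hau ((Over.map f).map z') ⟨Over.OverMorphism.ext (Over.w z'), Subtype.ext ((key z').mp hz')⟩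
  exact Over.OverMorphism.ext (congrArg (fun y => y.left) h)

/-- Multiplicativity passes to the classifying morphism. -/
theorem map_mul_classify {G D : Over S} [GrpObj G] [GrpObj D] {υ : R ⊗ D ⟶ G} (hD : AutFam.RepresentsHom R G D υ)
    (hmul : ∀ (X : Over S) (h : X ⟶ R) (a b : X ⟶ D), lift h (a * b) ≫ υ = (lift h a ≫ υ) * (lift h b ≫ υ))
    {W : Scheme.{u}} {f : W ⟶ S} {N : Over W} [GrpObj N] {υN : R ⊗ (Over.map f).obj N ⟶ G}
    (hmulN : ∀ (X : Over W) (r : (Over.map f).obj X ⟶ R) (a b : X ⟶ N),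
      lift r ((Over.map f).map (a * b)) ≫ υN =
        (lift r ((Over.map f).map a) ≫ υN) * (lift r ((Over.map f).map b) ≫ υN))
    {a₀ : (Over.map f).obj N ⟶ D} (ha₀ : (R ◁ a₀) ≫ υ = υN) (X : Over W) (a b : X ⟶ N) :
    (Over.map f).map (a * b) ≫ a₀ = ((Over.map f).map a ≫ a₀) * ((Over.map f).map b ≫ a₀) := by
  refine hom_ext_family hD _ _ ?_
  have e0 : ∀ c : (Over.map f).obj X ⟶ D,
      (R ◁ c) ≫ υ = lift (fst R _) (snd R ((Over.map f).obj X) ≫ c) ≫ υ := fun c => by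
    congr 1
  rw [e0, e0, MonObj.comp_mul, hmul]
  obtain ⟨Z, k, t₀, ht₀⟩ := exists_lift_map f (snd R ((Over.map f).obj X))
  rw [← cancel_epi k.hom, MonObj.comp_mul]
  simp only [comp_lift_assoc, reassoc_of% ht₀]
  have e1 : ∀ c : X ⟶ N, lift (k.hom ≫ fst R _) ((Over.map f).map t₀ ≫ (Over.map f).map c ≫ a₀) ≫ υ =
      lift (k.hom ≫ fst R _) ((Over.map f).map (t₀ ≫ c)) ≫ υN := fun c => by
    rw [← ha₀, lift_whiskerLeft_assoc, Functor.map_comp, Category.assoc]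
  rw [e1, e1, e1, MonObj.comp_mul]
  exact hmulN Z _ _ _

/-- A chart of a group of homomorphisms is the base change as a group. -/
theorem nonempty_grpIso_chart {G D : Over S} [GrpObj G] [GrpObj D] {υ : R ⊗ D ⟶ G}
    (hD : AutFam.RepresentsHom R G D υ)
    (hmul : ∀ (X : Over S) (h : X ⟶ R) (a b : X ⟶ D), lift h (a * b) ≫ υ = (lift h a ≫ υ) * (lift h b ≫ υ))
    {W : Scheme.{u}} {f : W ⟶ S} {N : Over W} [GrpObj N] {υN : R ⊗ (Over.map f).obj N ⟶ G}
    {hN : AutFam.IsHomFamily R G υN}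
    (hrep : RepOver (famPsh R G) (Over.homMk N.hom rfl : (Over.map f).obj N ⟶ Over.mk f) ⟨υN, hN⟩)
    (hmulN : ∀ (X : Over W) (r : (Over.map f).obj X ⟶ R) (a b : X ⟶ N),
      lift r ((Over.map f).map (a * b)) ≫ υN =
        (lift r ((Over.map f).map a) ≫ υN) * (lift r ((Over.map f).map b) ≫ υN)) :
    Nonempty (Grp.mk (Red.bc f D) ≅ Grp.mk N) := by
  obtain ⟨a₀, ha₀, -⟩ := hD.2 _ υN hN
  have hbij := existsUnique_chart_point hD hrep ha₀
  let ψ : N ⟶ Red.bc f D := bcPoint f D _ a₀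
  have hψ : ∀ (Z : Over W) (z : Z ⟶ N), z ≫ ψ = bcPointMulEquiv f D Z ((Over.map f).map z ≫ a₀) :=
    fun Z z => (bcPoint_comp f z a₀).symm
  have hinj : ∀ (Z : Over W) (z z' : Z ⟶ N), z ≫ ψ = z' ≫ ψ → z = z' := fun Z z z' h => by
    rw [hψ, hψ] at h
    exact (hbij Z _).unique rfl ((bcPointMulEquiv f D Z).injective h).symm
  obtain ⟨ζ, hζ, -⟩ := hbij (Red.bc f D) ((bcPointMulEquiv f D _).symm (𝟙 _))
  have hζψ : ζ ≫ ψ = 𝟙 _ := by rw [hψ, hζ, MulEquiv.apply_symm_apply]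
  let e : N ≅ Red.bc f D :=
    ⟨ψ, ζ, hinj _ _ _ (by rw [Category.assoc, hζψ, Category.id_comp, Category.comp_id]), hζψ⟩
  haveI : IsMonHom ψ := isMonHom_of_points ψ fun X a b => by
    rw [hψ, hψ, hψ, map_mul_classify hD hmul hmulN ha₀, map_mul]
  exact ⟨(Grp.mkIso (G := Grp.mk N) (H := Grp.mk (Red.bc f D)) e
    (IsMonHom.one_hom ψ) (IsMonHom.mul_hom ψ)).symm⟩

theorem isAffine_DS_left (W : Scheme.{u}) [IsAffine W] (M : Type) [AddCommGroup M] : IsAffine (Red.DS W M).left := by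
  haveI : IsAffine (Red.diag (ULift.{u} ℤ) M).left := inferInstanceAs (IsAffine (Spec _))
  exact inferInstanceAs (IsAffine (pullback (Red.diag (ULift.{u} ℤ) M).hom _))

/-- The dual is a diagonalisable group over every chart. -/
theorem chart_iso_dual {D : Over S} [GrpObj D] {υ : R ⊗ D ⟶ Red.Gm S}
    (hD : AutFam.RepresentsHom R (Red.Gm S) D υ)
    (hmul : ∀ (X : Over S) (h : X ⟶ R) (a b : X ⟶ D), lift h (a * b) ≫ υ = (lift h a ≫ υ) * (lift h b ≫ υ))
    {W : Scheme.{u}} {f : W ⟶ S} (hc : ConstData R f) :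
    ∃ (A : Type) (_ : AddCommGroup A), Nonempty (Grp.mk (Red.bc f D) ≅ Grp.mk (Red.DS W A)) := by
  obtain ⟨A, instA, υA, hυA, hrep, hmulA⟩ := exists_chart_dual f R hc
  exact ⟨A, instA, nonempty_grpIso_chart hD hmul hrep hmulA⟩

/-- Twisted constant groups have representable duals, of multiplicative type. -/
theorem exists_dual_twConst (R : Over S) [GrpObj R]
    (hR : TwC.Locally S TwC.Topology.fpqc (fun S' f => ∃ (M : Type) (_ : Group M) (e : Red.bc f R ≅ TwC.const S' M),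
      TwC.IsConstGrp M (Red.bc f R) e)) :
    ∃ (D : Over S) (_ : GrpObj D) (υ : R ⊗ D ⟶ Red.Gm S), AutFam.RepresentsHom R (Red.Gm S) D υ ∧
      (∀ (X : Over S) (r : X ⟶ R) (a b : X ⟶ D), lift r (a * b) ≫ υ = (lift r a ≫ υ) * (lift r b ≫ υ)) ∧
      TwC.Locally S TwC.Topology.fpqc (fun S' f => ∃ (M : Type) (_ : AddCommGroup M),
        Nonempty (Grp.mk (Red.bc f D) ≅ Grp.mk (Red.DS S' M))) := by
  obtain ⟨S', π, hfl, hsurj, hqc, hloc⟩ := hR
  haveI := hfl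
  have hloc' : ∀ s' : S', ∃ U : S'.Opens, s' ∈ U ∧ ConstData R (U.ι ≫ π) := fun s' => by
    obtain ⟨U, hU, M, instM, e, he⟩ := hloc s'
    exact ⟨U, hU, constData_of_iso _ e he⟩
  obtain ⟨D, m, hm, -⟩ := exists_rep_of_fpqc_local (isSheaf_famPsh R (Red.Gm S)) (isFpqcSheaf_famPsh R (Red.Gm S))
    (Pc := fun _ f => ConstData R f) (fun U hU => coverBy_constData R π hqc hloc' U hU) fun {W} hW f hf => by
      obtain ⟨A, instA, υA, hυA, hrep, -⟩ := exists_chart_dual f R hf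
      haveI := hW
      refine ⟨_, _, ⟨υA, hυA⟩, ?_, hrep⟩
      exact isAffine_DS_left W A
  have hD : AutFam.RepresentsHom R (Red.Gm S) D m.1 := ⟨m.2, fun T φ hφ => by
    obtain ⟨a, ha, hau⟩ := hm T ⟨φ, hφ⟩
    exact ⟨a, congrArg Subtype.val ha, fun b hb => hau b (Subtype.ext hb)⟩⟩
  obtain ⟨grp, hmul⟩ := exists_grpObj_hom (mul_comm_of_charts (hasChartsFpqc_DS (M := ℤ) S fgM inferInstance)) hD
  exact ⟨D, grp, m.1, hD, hmul, S', π, hfl, hsurj, hqc, fun s' =>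
    ⟨(hloc' s').choose, (hloc' s').choose_spec.1, chart_iso_dual hD hmul (hloc' s').choose_spec.2⟩⟩

end GrothLib.HomScheme
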