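import Groth.Agent.Lib.HomScheme.Sheaf
import Groth.Agent.Lib.RepLocal.FpqcSheaf
import Groth.Prelude.Def_AutFam

/-!
Families of homomorphisms form a Zariski and fpqc sheaf.
-/

set_option backward.isDefEq.respectTransparency false

universe u

open CategoryTheory CategoryTheory.Limits MonoidalCategory CartesianMonoidalCategory MonObj GrpObj AlgebraicGeometry

namespace GrothLib.HomScheme

open GrothLib.RepLocal

variable {S : Scheme.{u}} (H G : Over S) [GrpObj H] [GrpObj G]

theorem isPullback_snd (X : Over S) {A B : Over S} (c : A ⟶ B) :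
    IsPullback (X ◁ c).left (snd X A).left (snd X B).left c.left := by
  refine (IsPullback.of_bot ?_ ?_ (IsPullback.of_hasPullback X.hom B.hom).flip).flip
  · rw [show (X ◁ c).left ≫ pullback.fst X.hom B.hom = (fst X A).left from
      congrArg (fun t => t.left) (whiskerLeft_fst X c), Over.w c]
    exact (IsPullback.of_hasPullback X.hom A.hom).flip
  · exact (congrArg (fun t => t.left) (whiskerLeft_snd X c)).symm

/-- The presheaf of families of homomorphisms. -/
noncomputable def famPsh : Psh.{u} S where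
  obj T := {φ : H ⊗ T ⟶ G // AutFam.IsHomFamily H G φ}
  map f φ := ⟨(H ◁ f) ≫ φ.1, fun X g₁ g₂ t => by
    simp only [lift_whiskerLeft_assoc]
    exact φ.2 X g₁ g₂ (t ≫ f)⟩
  map_id T φ := Subtype.ext (by simp)
  map_comp f g φ := Subtype.ext (by simp)

theorem famPsh_map {T T' : Over S} (f : T' ⟶ T) (φ : (famPsh H G).obj T) :
    ((famPsh H G).map f φ).1 = (H ◁ f) ≫ φ.1 := rfl

/-- Whether a morphism is a family of homomorphisms may be tested on a cover. -/
theorem isHomFamily_of_cover {T : Over S} {κ : Type u} (V : κ → T.left.Opens)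
    (hV : TopologicalSpace.IsOpenCover V) (φ : H ⊗ T ⟶ G)
    (h : ∀ i, AutFam.IsHomFamily H G ((H ◁ opnι T (V i)) ≫ φ)) : AutFam.IsHomFamily H G φ := by
  intro X g₁ g₂ t
  refine hom_ext_opens (fun i => t.left ⁻¹ᵁ V i) (TopologicalSpace.IsOpenCover.mk (eq_top_iff.mpr fun x _ => by
    obtain ⟨i, hi⟩ := hV.exists_mem (t.left x)
    exact TopologicalSpace.Opens.mem_iSup.mpr ⟨i, hi⟩)) fun i => ?_
  let t' : opn X (t.left ⁻¹ᵁ V i) ⟶ opn T (V i) := Over.homMk (t.left ∣_ V i) (by
    change t.left ∣_ V i ≫ (V i).ι ≫ T.hom = (t.left ⁻¹ᵁ V i).ι ≫ X.hom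
    rw [morphismRestrict_ι_assoc, Over.w t])
  have ht : t' ≫ opnι T (V i) = opnι _ _ ≫ t := Over.OverMorphism.ext (morphismRestrict_ι _ _)
  have key : ∀ g : X ⟶ H, opnι X (t.left ⁻¹ᵁ V i) ≫ lift g t ≫ φ =
      lift (opnι X (t.left ⁻¹ᵁ V i) ≫ g) t' ≫ (H ◁ opnι T (V i)) ≫ φ := fun g => by
    rw [lift_whiskerLeft_assoc, comp_lift_assoc, ht]
  rw [MonObj.comp_mul, key, key, key, MonObj.comp_mul]
  exact h i _ _ _ t'

theorem isSheaf_famPsh : IsSheaf (famPsh H G) := by
  intro T κ V hV x hx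
  obtain ⟨y, hy, hyu⟩ := isSheaf_homPsh H G T V hV (fun i => (x i).1) fun i j => congrArg Subtype.val (hx i j)
  have hyfam : AutFam.IsHomFamily H G y := isHomFamily_of_cover H G V hV y fun i => by
    rw [show (H ◁ opnι T (V i)) ≫ y = (x i).1 from hy i]
    exact (x i).2
  exact ⟨⟨y, hyfam⟩, fun i => Subtype.ext (hy i), fun z hz => Subtype.ext (hyu _ fun i => congrArg Subtype.val (hz i))⟩

theorem isFpqcSheaf_famPsh : IsFpqcSheaf (famPsh H G) := by
  intro T' T c hT' hT hfl hsj x hx
  haveI := hT'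
  haveI := hT
  haveI := hfl
  haveI := hsj
  obtain ⟨y, hy, hyu⟩ := existsUnique_desc_affine c.left (p₁ := H ◁ c) (snd H T).left (snd H T').left
    (isPullback_snd H c) x.1 fun P' a b hab => by
    have h1 : (a ≫ snd H T') ≫ c = (b ≫ snd H T') ≫ c := by
      simpa using congrArg (· ≫ snd H T) hab
    have h2 : a ≫ fst H T' = b ≫ fst H T' := by simpa using congrArg (· ≫ fst H T) hab
    have h3 : (H ◁ (a ≫ snd H T')) ≫ x.1 = (H ◁ (b ≫ snd H T')) ≫ x.1 :=
      congrArg Subtype.val (hx P' _ _ h1)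
    have e : ∀ a : P' ⟶ H ⊗ T', a ≫ x.1 = lift (a ≫ fst H T') (𝟙 P') ≫ (H ◁ (a ≫ snd H T')) ≫ x.1 := fun a => by
      rw [lift_whiskerLeft_assoc, Category.id_comp, ← comp_lift, lift_fst_snd, Category.comp_id]
    rw [e a, e b, h2, h3]
  have hyfam : AutFam.IsHomFamily H G y := by
    intro X g₁ g₂ t
    let X' : Over S := Over.mk (pullback.fst t.left c.left ≫ X.hom)
    let p : X' ⟶ X := Over.homMk (pullback.fst t.left c.left) rfl
    let t' : X' ⟶ T' := Over.homMk (pullback.snd t.left c.left) (by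
      change pullback.snd t.left c.left ≫ T'.hom = pullback.fst t.left c.left ≫ X.hom
      rw [← Over.w c, ← Category.assoc, ← pullback.condition, Category.assoc, Over.w t])
    have ht : t' ≫ c = p ≫ t := Over.OverMorphism.ext pullback.condition.symm
    haveI := effectiveEpi_affine c.left (IsPullback.of_hasPullback t.left c.left)
    haveI : Epi p := (Over.forget S).epi_of_epi_map (show Epi (pullback.fst t.left c.left) from inferInstance)
    rw [← cancel_epi p, MonObj.comp_mul]
    have key : ∀ g : X ⟶ H, p ≫ lift g t ≫ y = lift (p ≫ g) t' ≫ x.1 := fun g => by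
      rw [← hy, lift_whiskerLeft_assoc, comp_lift_assoc, ht]
    rw [key, key, key, MonObj.comp_mul]
    exact x.2 _ _ _ _
  exact ⟨⟨y, hyfam⟩, Subtype.ext hy, fun z hz => Subtype.ext (hyu _ (congrArg Subtype.val hz))⟩

end GrothLib.HomScheme
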