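import Groth.Agent.Lib.HomScheme.GrpHom
import Groth.Agent.Lib.HomScheme.DiagHom
import Groth.Agent.Lib.DiagGrp.FlatMultType
import Groth.Agent.Lib.EtSite.FpqcDescent

/-!
Homomorphisms between finite groups of multiplicative type form a finite étale scheme.
-/

set_option backward.isDefEq.respectTransparency false

universe u

open CategoryTheory MonoidalCategory CartesianMonoidalCategory MonObj GrpObj AlgebraicGeometry
open CategoryTheory.Limits
open GrothLib.DiagGrp

namespace GrothLib.HomScheme

variable {S : Scheme.{u}}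

theorem finite_of_chart {G : Over S} [GrpObj G] [IsFinite G.hom] {W : Scheme.{u}} (f : W ⟶ S) [Nonempty W]
    {M : Type} [AddCommGroup M] (e : Grp.mk (Red.bc f G) ≅ Grp.mk (Red.DS W M)) : Finite M := by
  obtain ⟨w⟩ := ‹Nonempty W›
  haveI : IsFinite (Red.bc f G).hom := inferInstanceAs (IsFinite (pullback.snd G.hom f))
  have h1 : IsFinite (Red.DS W M).hom := by
    let i : Red.DS W M ≅ Red.bc f G := ((Grp.forget (Over W)).mapIso e).symm
    haveI : IsIso i.hom.left := inferInstanceAs (IsIso ((Over.forget W).mapIso i).hom)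
    rw [← Over.w i.hom]
    exact (MorphismProperty.cancel_left_of_respectsIso @IsFinite _ _).mpr ‹_›
  set m := W.fromSpecResidueField w
  haveI : IsFinite (Red.DS (Spec (CommRingCat.of (W.residueField w))) M).hom := by
    haveI : IsFinite (Red.bc m (Red.DS W M)).hom :=
      MorphismProperty.pullback_snd (P := @IsFinite) _ _ h1
    let i : Red.DS (Spec (W.residueField w)) M ≅ Red.bc m (Red.DS W M) := (Grp.forget _).mapIso
      (bcGrpComp (Red.diag (ULift.{u} ℤ) M) (Limits.IsTerminal.from specULiftZIsTerminal W) m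
        (Limits.IsTerminal.from specULiftZIsTerminal (Spec (W.residueField w))) (specULiftZIsTerminal.hom_ext _ _))
    haveI : IsIso i.hom.left := inferInstanceAs (IsIso ((Over.forget _).mapIso i).hom)
    show IsFinite (Red.DS (Spec (W.residueField w)) M).hom
    rw [← Over.w i.hom]
    exact (MorphismProperty.cancel_left_of_respectsIso @IsFinite _ _).mpr ‹_›
  exact finite_of_isFinite_DS (W.residueField w) M

/-- The scheme of homomorphisms between finite groups of multiplicative type is finite étale. -/
theorem finite_etale_hom {G H : Over S} [GrpObj G] [GrpObj H] (hG : HasChartsFpqc fgM G) [IsFinite G.hom]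
    (hH : HasChartsFpqc fgM H) [IsFinite H.hom] {A : Over S} {υ : G ⊗ A ⟶ H}
    (h : AutFam.RepresentsHom G H A υ) [IsAffineHom A.hom] : IsFinite A.hom ∧ Etale A.hom := by
  have hcov : ∀ V : S.Opens, IsAffineOpen V → CoverBy (fun _ f => HasChart fgM G f ∧ HasChart fgM H f) V :=
    fun V hV => (hG.coverBy V hV).inter (hH.coverBy V hV) (fun f g f' hf' hc => hc.precomp g f' hf')
      (fun f g f' hf' hc => hc.precomp g f' hf')
  have key : ∀ {W : Scheme.{u}} [IsAffine W] (f : W ⟶ S), (HasChart fgM G f ∧ HasChart fgM H f) →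
      IsFinite ((Over.pullback f).map (toUnit A)).left ∧ Etale ((Over.pullback f).map (toUnit A)).left := by
    intro W _ f hf
    haveI : IsIso (pullback.snd (𝟙_ (Over S)).hom f) := inferInstanceAs (IsIso (pullback.snd (𝟙 S) f))
    suffices hs : IsFinite (Red.bc f A).hom ∧ Etale (Red.bc f A).hom by
      have h5 : ((Over.pullback f).map (toUnit A)).left ≫ pullback.snd (𝟙_ (Over S)).hom f = (Red.bc f A).hom :=
        pullback.lift_snd _ _ _
      rw [← h5] at hs
      exact ⟨(MorphismProperty.cancel_right_of_respectsIso @IsFinite _ _).mp hs.1,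
        (MorphismProperty.cancel_right_of_respectsIso @Etale _ _).mp hs.2⟩
    rcases isEmpty_or_nonempty W with hW | hW
    · haveI : IsEmpty (Red.bc f A).left := ⟨fun z => hW.elim ((Red.bc f A).hom z)⟩
      haveI : IsIso (Red.bc f A).hom := @isIso_of_isEmpty _ _ _ hW
      exact ⟨inferInstance, inferInstance⟩
    obtain ⟨⟨M, instM, -, ⟨eG⟩⟩, ⟨N, instN, hN, ⟨eH⟩⟩⟩ := hf
    letI := instM
    letI := instN
    haveI := finite_of_chart f eG
    haveI := finite_of_chart f eH
    haveI : Finite (N →+ M) := Finite.of_injective (fun φ : N →+ M => (φ : N → M)) DFunLike.coe_injective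
    let iG : Red.bc f G ≅ Red.DS W M := (Grp.forget (Over W)).mapIso eG
    let iH : Red.bc f H ≅ Red.DS W N := (Grp.forget (Over W)).mapIso eH
    haveI : IsMonHom iG.inv := eG.inv.hom.isMonHom_hom
    haveI : IsMonHom iG.hom := eG.hom.hom.isMonHom_hom
    haveI : IsMonHom iH.inv := eH.inv.hom.isMonHom_hom
    haveI : IsMonHom iH.hom := eH.hom.hom.isMonHom_hom
    haveI : IsAffineHom ((Over.pullback f).obj A).hom :=
      MorphismProperty.pullback_snd (P := @IsAffineHom) _ _ inferInstance
    exact finite_etale_diagHom hN (representsHom_iso iG iH (representsHom_bc f h))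
  have h1 : ∀ (P : MorphismProperty Scheme.{u}) [P.IsStableUnderBaseChange] [IsZariskiLocalAtTarget P]
      [P.DescendsAlong (@Surjective ⊓ @Flat ⊓ @QuasiCompact)],
      (∀ {W : Scheme.{u}} [IsAffine W] (f : W ⟶ S), (HasChart fgM G f ∧ HasChart fgM H f) →
        P ((Over.pullback f).map (toUnit A)).left) → P A.hom := by
    intro P _ _ _ hP
    haveI : IsIso (⊤ : S.Opens).ι := inferInstanceAs (IsIso S.topIso.hom)
    have h2 : P ((Over.pullback (⊤ : S.Opens).ι).map (toUnit A)).left :=
      pAt_of_coverBy P (toUnit A) (Pc := fun _ f => HasChart fgM G f ∧ HasChart fgM H f) hcov ⊤ fun f hf _ => hP f hf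
    have h3 : P (toUnit A).left := (P.arrow_mk_iso_iff
      (Arrow.isoMk (@asIso _ _ _ _ (pullback.fst A.hom (⊤ : S.Opens).ι) inferInstance)
        (@asIso _ _ _ _ (pullback.fst (𝟙_ (Over S)).hom (⊤ : S.Opens).ι) inferInstance)
        (isPullback_overMap (toUnit A) (⊤ : S.Opens).ι).w.symm)).mp h2
    have e : (toUnit A).left ≫ (𝟙_ (Over S)).hom = A.hom := Over.w (toUnit A)
    rw [← e]
    exact (P.cancel_right_of_respectsIso _ (𝟙 S)).mpr h3
  exact ⟨h1 @IsFinite fun f hf => (key f hf).1, h1 @Etale fun f hf => (key f hf).2⟩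

end GrothLib.HomScheme
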